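import Cfsg.Agent.H843.IMC.LamCo1

/-!
# `Co2`: characters of degree divisible by `7`, `11` from the fourth exterior power (helper843)
-/

set_option autoImplicit false

namespace Cfsg.Agent.H843.IMC.LamCo2

open Cfsg Cfsg.Spor Cfsg.Agent.H33 Cfsg.Agent.H843.IMC.Syn Cfsg.Agent.H843.IMC.Lam Cfsg.Agent.H843.IMC.LamCo1
open Cfsg.Agent.SporadicA.GolayBase Cfsg.Agent.SporadicA.GolayPerm Cfsg.Agent.SporadicStructure.M24El
open Cfsg.Agent.SporadicA.Co0Mono Cfsg.Agent.H419.LeechIrr

/-- The inclusion. -/
def inc : Spor.Co2 →* Co0 where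
  toFun γ := ⟨γ.1, γ.2.1⟩
  map_one' := rfl
  map_mul' _ _ := rfl

/-- Elements of `Co2`. -/
def of (g : Co0) (hg : g • leechU = leechU) : Spor.Co2 := ⟨g.1, g.2, hg⟩

theorem inc_of (g : Co0) (hg : g • leechU = leechU) : inc (of g hg) = g := rfl

theorem inc_injective : Function.Injective inc := fun a b h => by
  exact Subtype.ext (congrArg (fun z : Co0 => (z : Equiv.Perm leechLattice)) h)

instance : Finite Spor.Co2 := Finite.of_injective inc inc_injective

/-- The words vanishing at the two points. -/
def C2 : AddSubgroup golayCode where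
  carrier := {c | (c : GolayPt → ZMod 2) none = 0 ∧ (c : GolayPt → ZMod 2) (some 0) = 0}
  zero_mem' := ⟨rfl, rfl⟩
  add_mem' {a b} ha hb := by
    refine ⟨?_, ?_⟩
    · show (a : GolayPt → ZMod 2) none + (b : GolayPt → ZMod 2) none = 0
      rw [ha.1, hb.1, add_zero]
    · show (a : GolayPt → ZMod 2) (some 0) + (b : GolayPt → ZMod 2) (some 0) = 0
      rw [ha.2, hb.2, add_zero]
  neg_mem' {a} ha := by
    refine ⟨?_, ?_⟩
    · show -(a : GolayPt → ZMod 2) none = 0
      rw [ha.1, neg_zero]
    · show -(a : GolayPt → ZMod 2) (some 0) = 0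
      rw [ha.2, neg_zero]

theorem sign_fix (c : C2) : signCo0 (c : golayCode) • leechU = leechU := by
  apply Subtype.ext
  rw [signCo0_smul]
  funext i
  rw [signMap_apply]
  show sgn _ * vecU i = vecU i
  unfold vecU
  split_ifs with h
  · rcases h with rfl | rfl
    · rw [c.2.1, sgn_zero, one_mul]
    · rw [c.2.2, sgn_zero, one_mul]
  · rw [mul_zero]

theorem perm_fix (g : M24) (h1 : g • (none : GolayPt) = none) (h2 : g • (some 0 : GolayPt) = some 0) :
    permCo0 g • leechU = leechU := by
  apply Subtype.ext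
  rw [permCo0_smul]
  funext i
  rw [permMap_apply]
  show vecU _ = vecU i
  unfold vecU
  have h1' : (g : Equiv.Perm GolayPt) none = none := h1
  have h2' : (g : Equiv.Perm GolayPt) (some 0) = some 0 := h2
  have h3 : (g : Equiv.Perm GolayPt).symm i = none ↔ i = none := by rw [Equiv.symm_apply_eq, h1']
  have h4 : (g : Equiv.Perm GolayPt).symm i = some 0 ↔ i = some 0 := by rw [Equiv.symm_apply_eq, h2']
  simp only [h3, h4]

/-- The words. -/
def wd : Multiplicative C2 →* Multiplicative (GolayPt → ZMod 2) :=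
  AddMonoidHom.toMultiplicative (golayCode.subtype.toAddMonoidHom.comp C2.subtype)

/-- the sign changes -/
def sg : Multiplicative C2 →* Spor.Co2 where
  toFun c := of (signCo0 (c.toAdd : golayCode)) (sign_fix c.toAdd)
  map_one' := by
    apply inc_injective
    show signCo0 ((0 : C2) : golayCode) = 1
    exact signCo0_zero
  map_mul' a b := by
    apply inc_injective
    show signCo0 ((a.toAdd : golayCode) + (b.toAdd : golayCode)) = signCo0 _ * signCo0 _
    exact signCo0_add _ _

theorem wp_mem (g : M24) (h1 : g • (none : GolayPt) = none) (h2 : g • (some 0 : GolayPt) = some 0) (c : golayCode)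
    (hc : c ∈ C2) : wordPerm g c ∈ C2 := by
  have h1' : (g : Equiv.Perm GolayPt) none = none := h1
  have h2' : (g : Equiv.Perm GolayPt) (some 0) = some 0 := h2
  refine ⟨?_, ?_⟩
  · show (c : GolayPt → ZMod 2) ((g : Equiv.Perm GolayPt).symm none) = 0
    rw [(Equiv.symm_apply_eq _).2 h1'.symm]
    exact hc.1
  · show (c : GolayPt → ZMod 2) ((g : Equiv.Perm GolayPt).symm (some 0)) = 0
    rw [(Equiv.symm_apply_eq _).2 h2'.symm]
    exact hc.2

/-- The action on the words. -/
def wp (g : M24) (h1 : g • (none : GolayPt) = none) (h2 : g • (some 0 : GolayPt) = some 0) :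
    Multiplicative C2 ≃* Multiplicative C2 where
  toFun c := Multiplicative.ofAdd ⟨wordPerm g (c.toAdd : golayCode), wp_mem g h1 h2 _ c.toAdd.2⟩
  invFun c := Multiplicative.ofAdd ⟨wordPerm g⁻¹ (c.toAdd : golayCode),
    wp_mem g⁻¹ (by rw [inv_smul_eq_iff, h1]) (by rw [inv_smul_eq_iff, h2]) _ c.toAdd.2⟩
  left_inv c := by
    apply Multiplicative.toAdd.injective
    apply Subtype.ext
    apply Subtype.ext
    funext i
    show ((c.toAdd : golayCode) : GolayPt → ZMod 2) ((g : Equiv.Perm GolayPt).symm ((g : Equiv.Perm GolayPt) i)) = _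
    rw [Equiv.symm_apply_apply]
  right_inv c := by
    apply Multiplicative.toAdd.injective
    apply Subtype.ext
    apply Subtype.ext
    funext i
    show ((c.toAdd : golayCode) : GolayPt → ZMod 2) ((g : Equiv.Perm GolayPt) ((g : Equiv.Perm GolayPt).symm i)) = _
    rw [Equiv.apply_symm_apply]
  map_mul' a b := rfl

/-- The masks of a basis of the words vanishing at the two points. -/
def masks : List ℕ := [4845570, 2605066, 1265762, 692282, 421910, 180636, 90318, 42232, 21116, 10558]

theorem masks_ok : (masks.all fun m => (isCode m && Nat.blt m 16777216) && (!m.testBit 23 && !m.testBit 0)) = true := by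
  decide +kernel

theorem mem_of_mem_masks {m : ℕ} (hm : m ∈ masks) : ∃ e : Multiplicative C2, (wd e).toAdd = word m := by
  have h := List.all_eq_true.1 masks_ok m hm
  simp only [Bool.and_eq_true, Bool.not_eq_true'] at h
  have hlt : m < 2 ^ 24 := by
    have := h.1.2
    rw [Nat.blt_eq] at this
    omega
  have hc : word m ∈ golayCode := by
    rw [mem_golayCode_iff, maskW_word hlt]
    exact h.1.1
  have h23 : (⟨word m, hc⟩ : golayCode) ∈ C2 := by
    refine ⟨?_, ?_⟩
    · show word m none = 0
      rw [word_apply]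
      have h1 : idx none = 23 := rfl
      rw [h1, h.2.1]
      rfl
    · show word m (some 0) = 0
      rw [word_apply]
      have h1 : idx (some 0) = 0 := rfl
      rw [h1, h.2.2]
      rfl
  exact ⟨Multiplicative.ofAdd ⟨⟨word m, hc⟩, h23⟩, rfl⟩

theorem im_co2 {p k : ℕ} [Fact p.Prime] (hk : k ≤ 24) {P : ℕ} (hP : ok P = true)
    (hPp : el P ^ p = 1) (hfix : (Nat.beq (papp P 23) 23 && Nat.beq (papp P 0) 0) = true)
    (hchk : chk k 0 ((List.range 24).map (syn P masks)) = true) : IM p Spor.Co2 := by
  classical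
  have := Fintype.ofFinite Spor.Co2
  have := Fintype.ofFinite (Multiplicative C2)
  rw [Bool.and_eq_true] at hfix
  have h1 : el P • (none : GolayPt) = none := by
    apply idx_injective
    rw [idx_el_smul hP]
    exact Nat.eq_of_beq_eq_true hfix.1
  have h2 : el P • (some 0 : GolayPt) = some 0 := by
    apply idx_injective
    rw [idx_el_smul hP]
    exact Nat.eq_of_beq_eq_true hfix.2
  refine IM_lam (E := Multiplicative C2) hk wd ?_ sg hP hPp (wp (el P) h1 h2) ?_
    (of (permCo0 (el P)) (perm_fix _ h1 h2)) ?_ (isCharacter_altk k (matH.comp inc)) ?_ (bs := masks)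
    (fun m hm => mem_of_mem_masks hm) hchk
  · intro a b h
    exact Subtype.ext (Subtype.ext h)
  · intro e i
    show ((e.toAdd : golayCode) : GolayPt → ZMod 2) (((el P : M24) : Equiv.Perm GolayPt).symm
      (((el P : M24) : Equiv.Perm GolayPt) i)) = _
    rw [Equiv.symm_apply_apply]
    rfl
  · intro e
    apply inc_injective
    rw [map_mul, map_mul, map_inv, inc_of]
    show signCo0 (wordPerm (el P) (e.toAdd : golayCode)) = permCo0 (el P) * signCo0 (e.toAdd : golayCode) * (permCo0 (el P))⁻¹
    rw [← perm_mul_sign_mul_inv]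
  · intro e
    show altk k (matC (signCo0 (e.toAdd : golayCode))) = _
    rw [matC_sign]
    rfl

def Q7 : ℕ := 962624247728115338789435197068793216

theorem okQ7 : ok Q7 = true := by decide +kernel
theorem powQ7 : ppow Q7 7 = idP := by decide +kernel
theorem fixQ7 : (Nat.beq (papp Q7 23) 23 && Nat.beq (papp Q7 0) 0) = true := by decide +kernel
theorem fixP11 : (Nat.beq (papp P11 23) 23 && Nat.beq (papp P11 0) 0) = true := by decide +kernel
theorem chkQ7 : chk 4 0 ((List.range 24).map (syn Q7 masks)) = true := by decide +kernel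
theorem chkP11 : chk 4 0 ((List.range 24).map (syn P11 masks)) = true := by decide +kernel

theorem im7 : IM 7 Spor.Co2 :=
  have : Fact (Nat.Prime 7) := ⟨by norm_num⟩
  im_co2 (k := 4) (by norm_num) okQ7 (el_pow_eq_one okQ7 powQ7) fixQ7 chkQ7

theorem im11 : IM 11 Spor.Co2 :=
  have : Fact (Nat.Prime 11) := ⟨by norm_num⟩
  im_co2 (k := 4) (by norm_num) ok11 (el_pow_eq_one ok11 pow11) fixP11 chkP11

end Cfsg.Agent.H843.IMC.LamCo2
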