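import Cfsg.Agent.H843.IMC.Frame3
import Cfsg.Agent.H843.IMC.LamCo2
import Cfsg.Agent.SporadicStructure.Co2RankThree
import Cfsg.Agent.H713.Spor.Small

/-!
# `Co2`: characters of degrees `23`, `275`, `2024` (helper843)
-/

set_option autoImplicit false

namespace Cfsg.Agent.H843.IMC.Co2A

open Cfsg Cfsg.Spor Cfsg.Agent.H33 Cfsg.Agent.H672.SporIM Cfsg.Agent.H690.Spor.RankThree

theorem card_co2 : Nat.card Spor.Co2 = 42305421312000 := Cfsg.Agent.BiChar.Small.card_Co2

/-- The constituents of a rank 3 action of `Co2` with subdegrees `891`, `1408`. -/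
theorem of_R3 {G X : Type*} [Group G] [MulAction G X] [Finite G] [Fintype X] [DecidableEq X] {R : X → X → Prop}
    [DecidableRel R] (hG : Nat.card G = 42305421312000) (hR : R3 G X R 891 1408) :
    ∃ χ₁ χ₂ : IrrCharacter G, charDegree (χ₁ : G → ℂ) = 2024 ∧ charDegree (χ₂ : G → ℂ) = 275 ∧
      ∀ x : G, (Nat.card (MulAction.fixedBy X x) : ℂ) = 1 + (χ₁ : G → ℂ) x + (χ₂ : G → ℂ) x := by
  classical
  obtain ⟨χ₁, χ₂, f, g, D, hf, hg, hval, h3, h4, h5⟩ := Frame3.frame_int hR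
  have hd1 : charDegree (χ₁ : G → ℂ) = f := Cfsg.Agent.H670.PSing.charDegree_eq_of hf
  have hd2 : charDegree (χ₂ : G → ℂ) = g := Cfsg.Agent.H670.PSing.charDegree_eq_of hg
  have hfn : f ∣ 42305421312000 := by rw [← hd1, ← hG]; exact Cfsg.Agent.Blocks.Knorr.charDegree_dvd χ₁.2
  have hgn : g ∣ 42305421312000 := by rw [← hd2, ← hG]; exact Cfsg.Agent.Blocks.Knorr.charDegree_dvd χ₂.2
  have hne : f ≠ g := by omega
  obtain ⟨c, e, hc, he⟩ := h5 hne
  have hdd : f * g * (c.natAbs * c.natAbs) = 2885414400 := by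
    have h6 : D = c.natAbs * c.natAbs := by
      have : (D : ℤ) = ((c.natAbs * c.natAbs : ℕ) : ℤ) := by
        rw [hc, Int.natAbs_mul_self]; ring
      exact_mod_cast this
    rw [← h6, h4]
  have hd : 0 < c.natAbs := by
    apply Nat.pos_of_ne_zero
    intro h0
    rw [h0] at hdd
    omega
  have h7 : c.natAbs ∣ 7920 := by
    apply dvd_of_sq_dvd (s := 46) (by
      have h := squarefree_prod (L := [2, 23]) (by decide) (by decide)
      exact h) (by norm_num)
    rw [show 7920 * 7920 * 46 = 2885414400 by norm_num, ← hdd]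
    exact Dvd.intro_left _ rfl
  have hL : (([(2, 4), (3, 2), (5, 1), (11, 1)] : List (ℕ × ℕ)).map fun x => x.1 ^ x.2).prod = 7920 := by norm_num
  have h8 : c.natAbs ∈ divList [(2, 4), (3, 2), (5, 1), (11, 1)] :=
    mem_divList (by
      intro x hx
      fin_cases hx <;> norm_num) (by rw [hL]; exact h7)
  have hchk : (divList [(2, 4), (3, 2), (5, 1), (11, 1)]).all
      (chkD 2299 2885414400 42305421312000 [(2024, 275), (2277, 22)]) = true := by decide +kernel
  have h9 := List.all_eq_true.1 hchk _ h8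
  have key : ∀ f g : ℕ, g < f → f + g = 2299 → f * g * (c.natAbs * c.natAbs) = 2885414400 →
      f ∣ 42305421312000 → g ∣ 42305421312000 → (∃ s : ℤ, (s = 1 ∨ s = -1) ∧ s * ((f : ℤ) - g) * c = e * 2299 + 1782) →
      f = 2024 ∧ g = 275 := by
    intro f g hlt hs hP hf hg ⟨s, hs1, hs2⟩
    have h10 := chkD_spec h9 hlt hs hP hd hf hg
    rw [List.mem_cons, List.mem_singleton] at h10
    rcases h10 with h10 | h10
    · exact ⟨congrArg Prod.fst h10, congrArg Prod.snd h10⟩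
    · exfalso
      have h11 : f = 2277 := congrArg Prod.fst h10
      have h12 : g = 22 := congrArg Prod.snd h10
      subst h11 h12
      have h13 : c.natAbs * c.natAbs = 57600 := by omega
      have h14 : c.natAbs = 240 := Nat.mul_self_inj.1 (by rw [h13])
      rcases Int.natAbs_eq c with h15 | h15 <;> rw [h14] at h15 <;> rw [h15] at hs2 <;>
        rcases hs1 with rfl | rfl <;> push_cast at hs2 <;> omega
  rcases lt_or_gt_of_ne hne with hlt | hlt
  · obtain ⟨rfl, rfl⟩ := key g f hlt (by omega) (by rw [mul_comm g f]; exact hdd) hgn hfn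
      ⟨-1, Or.inr rfl, by push_cast at he ⊢; linarith⟩
    exact ⟨χ₂, χ₁, hd2, hd1, fun x => by rw [hval]; ring⟩
  · obtain ⟨rfl, rfl⟩ := key f g hlt (by omega) hdd hfn hgn
      ⟨1, Or.inl rfl, by push_cast at he ⊢; linarith⟩
    exact ⟨χ₁, χ₂, hd1, hd2, hval⟩

/-- `Co2` has irreducible characters of degrees `2024` and `275`. -/
theorem hasDeg_2024_275 : HasDeg Spor.Co2 2024 ∧ HasDeg Spor.Co2 275 := by
  classical
  have := Fintype.ofFinite Spor.Co2
  obtain ⟨H, -, hi, q₁, q₂, h1, h2⟩ := Cfsg.Agent.SporadicStructure.Co2RankThree.rank_three (MulEquiv.refl Spor.Co2)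
  obtain ⟨R, hR⟩ := R3.of_index H (k := 891) (l := 1408) (by rw [hi]) h1 h2 (by norm_num) (by norm_num) (by norm_num)
  have := Fintype.ofFinite (Spor.Co2 ⧸ H)
  obtain ⟨χ₁, χ₂, h3, h4, -⟩ := of_R3 card_co2 hR
  exact ⟨⟨χ₁, h3⟩, ⟨χ₂, h4⟩⟩

/-- A character of degree `23` from `irr23`. -/
theorem hasDeg_23_of {G : Type} [Group G] [Fintype G] {f : G →* Co0} {μ : IrrCharacter G}
    (hμ : ∀ g, Cfsg.Agent.H419.LeechIrr.lchi f g = 1 + (μ : G → ℂ) g) : HasDeg G 23 := by
  refine ⟨μ, ?_⟩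
  have h1 := hμ 1
  have h6 : Cfsg.Agent.H419.LeechIrr.lchi f 1 = 24 := by
    rw [Cfsg.Agent.H419.LeechIrr.lchi, map_one, Cfsg.Agent.SigZeroCo2.Lin.tr8_one]
    norm_num
  rw [h6, Cfsg.Agent.Blocks.Basic.irr_one_eq_charDegree μ.2] at h1
  have : (24 : ℂ) = ((1 + charDegree (μ : G → ℂ) : ℕ) : ℂ) := by rw [h1]; push_cast; ring
  have h9 : 24 = 1 + charDegree (μ : G → ℂ) := by exact_mod_cast this
  omega

theorem exists_mu : ∃ μ : IrrCharacter Spor.Co2, ∀ g, Cfsg.Agent.H419.LeechIrr.lchi Cfsg.Agent.H419.Spor.Co2.inc g =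
    1 + (μ : Spor.Co2 → ℂ) g := by
  have hs : IsSimpleGroup Spor.Co2 := Cfsg.Agent.Schreier.CoTwoStab.isSimpleGroup
  have hcard := card_co2
  exact Cfsg.Agent.H419.LeechFix.irr23 Cfsg.Agent.H419.Spor.Co2.inc Cfsg.Agent.H419.Spor.Co2.inc_injective
    (by rw [hcard]; norm_num) Cfsg.Agent.H419.Spor.Co2.k ⟨Cfsg.Agent.H419.Spor.Co3.y14, fun h => by
      have := Cfsg.Agent.H419.Spor.Co2.order
      rw [h, orderOf_one] at this
      norm_num at this⟩ Cfsg.Agent.H419.Spor.Co2.inc_k (w := Cfsg.Agent.H419.Spor.Co2.leechW) (fun h => by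
        have := congrArg (fun v : leechLattice => (v : GolayPt → ℤ) none) h
        exact absurd this (by decide)) Cfsg.Agent.H419.Spor.Co2.inc_fix

theorem hasDeg_23 : HasDeg Spor.Co2 23 := by
  have := Fintype.ofFinite Spor.Co2
  obtain ⟨μ, hμ⟩ := exists_mu
  exact hasDeg_23_of hμ

end Cfsg.Agent.H843.IMC.Co2A
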