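import Cfsg.Agent.H843.IMC.Co2A
import Cfsg.Agent.H707.RowCo3
import Cfsg.Agent.H419.TwoTrans

/-!
# `Co3`: characters of degrees `23` and `275` (helper843)
-/

set_option autoImplicit false

namespace Cfsg.Agent.H843.IMC.Co3A

open Cfsg Cfsg.Agent.H33 Cfsg.Agent.H672.SporIM Cfsg.Agent.H707.RowCo3

theorem card_co3 : Nat.card Spor.Co3 = 495766656000 :=
  (Cfsg.Agent.OddHalf.D8.RowCo3.card_of (K := Spor.Co3) ⟨MulEquiv.refl _⟩).2

instance : Finite Spor.Co3 := Nat.finite_of_card_ne_zero (by rw [card_co3]; norm_num)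

/-- Two points are equivalent if they are equal or opposite. -/
def st : Setoid X where
  r x y := y = x ∨ y = opp x
  iseqv := {
    refl := fun x => Or.inl rfl
    symm := by
      rintro x y (h | h)
      · exact Or.inl h.symm
      · right
        rw [h, opp_opp]
    trans := by
      rintro x y z (rfl | rfl) (rfl | rfl)
      · exact Or.inl rfl
      · exact Or.inr rfl
      · exact Or.inr rfl
      · left
        rw [opp_opp] }

/-- The 276 pairs. -/
abbrev Y : Type := Quotient st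

instance : MulAction Spor.Co3 Y where
  smul g := Quotient.map (fun x => g • x) (by
    rintro x y (rfl | rfl)
    · exact Or.inl rfl
    · right
      exact smul_opp g x)
  one_smul y := by
    obtain ⟨x, rfl⟩ := Quotient.exists_rep y
    exact congrArg _ (one_smul _ x)
  mul_smul g h y := by
    obtain ⟨x, rfl⟩ := Quotient.exists_rep y
    exact congrArg _ (mul_smul g h x)

theorem smul_mk (g : Spor.Co3) (x : X) : g • (Quotient.mk st x : Y) = Quotient.mk st (g • x) := rfl

theorem mk_eq (x y : X) : (Quotient.mk st x : Y) = Quotient.mk st y ↔ y = x ∨ y = opp x := Quotient.eq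

theorem opp_ne (x : X) : opp x ≠ x := by
  intro h
  have h1 := dot_opp x x
  rw [h] at h1
  have h2 : dotInt (x.1 : GolayPt → ℤ) (x.1 : GolayPt → ℤ) = 32 := by
    have h3 := x.2.1
    rw [← h3]
    unfold dotInt sqNorm
    exact Finset.sum_congr rfl fun i _ => by ring
  omega

theorem card_Y : Nat.card Y = 276 := by
  classical
  have h1 : Nat.card X = 2 * Nat.card Y := by
    have e : X ≃ Σ y : Y, {x : X // Quotient.mk st x = y} := (Equiv.sigmaFiberEquiv (fun x : X => Quotient.mk st x)).symm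
    have := Fintype.ofFinite X
    have := Fintype.ofFinite Y
    rw [Nat.card_congr e, Nat.card_sigma, Finset.sum_congr rfl (g := fun _ => 2), Finset.sum_const, Finset.card_univ,
      smul_eq_mul, mul_comm, Nat.card_eq_fintype_card]
    intro y _
    obtain ⟨x, rfl⟩ := Quotient.exists_rep y
    have h2 : {z : X | Quotient.mk st z = Quotient.mk st x} = {x, opp x} := by
      ext z
      rw [Set.mem_setOf_eq, eq_comm, mk_eq]
      rfl
    have h3 : Nat.card {z : X // Quotient.mk st z = Quotient.mk st x} =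
        ({z : X | Quotient.mk st z = Quotient.mk st x}).ncard := rfl
    rw [h3, h2, Set.ncard_pair (opp_ne x).symm]
  rw [card_X] at h1
  omega

instance : Finite Y := Nat.finite_of_card_ne_zero (by rw [card_Y]; norm_num)

theorem two_trans : MulAction.IsMultiplyPretransitive Spor.Co3 Y 2 := by
  rw [MulAction.is_two_pretransitive_iff]
  intro a b c d hab hcd
  have rep : ∀ a b : Y, a ≠ b → ∃ x y : X, Quotient.mk st x = a ∧ Quotient.mk st y = b ∧
      dotInt (x.1 : GolayPt → ℤ) (y.1 : GolayPt → ℤ) = 16 := by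
    intro a b hab
    obtain ⟨x, rfl⟩ := Quotient.exists_rep a
    obtain ⟨y, rfl⟩ := Quotient.exists_rep b
    rcases ip x y with h | h | h | h
    · exact absurd ((mk_eq x y).2 (Or.inl h)) hab
    · exact absurd ((mk_eq x y).2 (Or.inr h)) hab
    · exact ⟨x, y, rfl, rfl, h⟩
    · exact ⟨x, opp y, rfl, ((mk_eq y (opp y)).2 (Or.inr rfl)).symm, h⟩
  obtain ⟨x, y, rfl, rfl, hxy⟩ := rep a b hab
  obtain ⟨z, w, rfl, rfl, hzw⟩ := rep c d hcd
  obtain ⟨g, hg⟩ := MulAction.exists_smul_eq Spor.Co3 x z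
  have h1 : dotInt (z.1 : GolayPt → ℤ) ((g • y : X).1 : GolayPt → ℤ) = 16 := by
    rw [← hg, smul_coe, smul_coe]
    have h2 := Cfsg.Agent.SporadicStructure.Co0Base.co0_dotInt ⟨g.1, g.2.1⟩ x.1 y.1
    rw [← hxy]
    exact h2
  obtain ⟨h, hh⟩ := trans16 z (g • y) w h1 hzw
  refine ⟨(h : Spor.Co3) * g, ?_, ?_⟩
  · rw [smul_mk, mul_smul, hg]
    have h2 : (h : Spor.Co3) • z = z := h.2
    rw [h2]
  · rw [smul_mk, mul_smul]
    have h2 : (h : Spor.Co3) • g • y = w := hh
    rw [h2]

/-- A 2-transitive action of degree `n` gives a character of degree `n - 1`. -/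
theorem hasDeg_of_two_trans {G : Type*} [Group G] [Finite G] (Ω : Type*) [MulAction G Ω] [Finite Ω]
    (h2 : MulAction.IsMultiplyPretransitive G Ω 2) (hX : 2 ≤ Nat.card Ω) : HasDeg G (Nat.card Ω - 1) := by
  obtain ⟨θ, hθ⟩ := Cfsg.Agent.H419.TwoTrans.exists_irr Ω h2 hX
  refine ⟨θ, ?_⟩
  have h1 := hθ 1
  rw [MulAction.fixedBy_one_eq_univ, Nat.card_coe_set_eq, Set.ncard_univ,
    Cfsg.Agent.Blocks.Basic.irr_one_eq_charDegree θ.2] at h1
  have h4 : ((charDegree (θ : G → ℂ) : ℕ) : ℂ) = ((Nat.card Ω - 1 : ℕ) : ℂ) := by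
    rw [h1, Nat.cast_sub (by omega)]
    norm_num
  exact_mod_cast h4

theorem hasDeg_275 : HasDeg Spor.Co3 275 := by
  have h := hasDeg_of_two_trans (G := Spor.Co3) Y two_trans (by rw [card_Y]; norm_num)
  rwa [card_Y] at h

theorem exists_mu : ∃ μ : IrrCharacter Spor.Co3, ∀ g, Cfsg.Agent.H419.LeechIrr.lchi Cfsg.Agent.H419.Spor.Co3.inc g =
    1 + (μ : Spor.Co3 → ℂ) g := by
  obtain ⟨hs, hcard⟩ := Cfsg.Agent.OddHalf.D8.RowCo3.card_of (K := Spor.Co3) ⟨MulEquiv.refl _⟩
  exact Cfsg.Agent.H419.LeechFix.irr23 Cfsg.Agent.H419.Spor.Co3.inc Cfsg.Agent.H419.Spor.Co3.inc_injective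
    (by rw [hcard]; norm_num) Cfsg.Agent.H419.Spor.Co3.k ⟨Cfsg.Agent.H419.Spor.Co3.y14, fun h => by
      have := Cfsg.Agent.H419.Spor.Co3.order
      rw [h, orderOf_one] at this
      norm_num at this⟩ Cfsg.Agent.H419.Spor.Co3.inc_k (w := Spor.leechV) (fun h => by
        have := congrArg (fun v : leechLattice => (v : GolayPt → ℤ) none) h
        exact absurd this (by decide)) Cfsg.Agent.H419.Spor.Co3.inc_fix

theorem hasDeg_23 : HasDeg Spor.Co3 23 := by
  have := Fintype.ofFinite Spor.Co3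
  obtain ⟨μ, hμ⟩ := exists_mu
  exact Co2A.hasDeg_23_of hμ

end Cfsg.Agent.H843.IMC.Co3A
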