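import Cfsg.Agent.H33.IM
import Cfsg.Agent.S0139

/-!
# Characters of degree divisible by `p` from an element of order `p` acting without fixed points on the constituents of
the restriction to a normal subgroup (helper843)

* `dvd_sum_of_free` : a permutation of prime order.
* `dvd_of_free` : `f : E → G`, `x ∈ G` normalises `f(E)` and induces `σ` on `E`, `σ ^ p = 1`; no irreducible constituent of
  `W ∘ f` is fixed by `σ`: the degrees of the irreducible constituents of `W` are divisible by `p`.
* `isCharacter_descend` : a character of a quotient.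
* `isCharacter_trace_proj` : the character `g ↦ tr (ρ g ∘ P)` for an idempotent `P` commuting with `ρ`.
-/

set_option autoImplicit false

namespace Cfsg.Agent.H843.IMC

open Cfsg Cfsg.Agent.Characters.Core Cfsg.Agent.H33
open scoped ComplexConjugate

/-- A function invariant under a permutation of order `p` without fixed points on its support. -/
theorem dvd_sum_of_free {X : Type*} [Fintype X] [DecidableEq X] (p : ℕ) [Fact p.Prime] (τ : Equiv.Perm X) (hτ : τ ^ p = 1)
    (g : X → ℕ) (hg : ∀ x, g (τ x) = g x) (hfree : ∀ x, g x ≠ 0 → τ x ≠ x) : p ∣ ∑ x, g x := by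
  classical
  have h1 : ∑ x, g x = ∑ k ∈ Finset.univ.image g, (Finset.univ.filter fun x => g x = k).card * k := by
    rw [← Finset.sum_fiberwise_of_maps_to (s := Finset.univ) (t := Finset.univ.image g) (g := g)
      (fun x _ => Finset.mem_image_of_mem _ (Finset.mem_univ x))]
    refine Finset.sum_congr rfl fun k _ => ?_
    rw [Finset.sum_congr rfl (g := fun _ => k) (fun x hx => (Finset.mem_filter.1 hx).2), Finset.sum_const, smul_eq_mul]
  rw [h1]
  refine Finset.dvd_sum fun k _ => ?_
  by_cases hk : k = 0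
  · rw [hk, mul_zero]
    exact dvd_zero p
  refine Dvd.dvd.mul_right ?_ k
  let Y := {x : X // g x = k}
  let τ' : Equiv.Perm Y := τ.subtypePerm (p := fun x => g x = k) (fun x => by rw [hg])
  have hpow : ∀ (n : ℕ) (y : Y), (((τ' ^ n) y : Y) : X) = (τ ^ n) (y : X) := by
    intro n
    induction n with
    | zero => intro y; rfl
    | succ n ih =>
      intro y
      rw [pow_succ, pow_succ, Equiv.Perm.mul_apply, Equiv.Perm.mul_apply, ih]
      rfl
  let F : Function.End Y := fun y => τ' y
  have hFpow : ∀ (n : ℕ) (y : Y), (F ^ n) y = (τ' ^ n) y := by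
    intro n
    induction n with
    | zero => intro y; rfl
    | succ n ih =>
      intro y
      rw [pow_succ τ', Equiv.Perm.mul_apply, ← ih, pow_succ F]
      rfl
  have hF : F ^ p ^ 1 = 1 := by
    funext y
    rw [hFpow]
    apply Subtype.ext
    rw [pow_one, hpow, hτ]
    rfl
  have h2 := Equiv.Perm.card_fixedPoints_modEq (p := p) (n := 1) (f := F) hF
  have h3 : Fintype.card (Function.fixedPoints F) = 0 := by
    rw [Fintype.card_eq_zero_iff]
    refine ⟨fun y => ?_⟩
    have h4 : τ' y.1 = y.1 := y.2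
    exact hfree (y.1 : X) (by rw [y.1.2]; exact hk) (congrArg Subtype.val h4)
  rw [h3] at h2
  have h5 := (Nat.modEq_zero_iff_dvd.1 h2)
  rwa [Fintype.card_subtype] at h5

section

variable {G : Type*} [Group G] [Fintype G] {E : Type*} [Group E] [Fintype E]

/-- **Free action on the constituents.** -/
theorem dvd_of_free (p : ℕ) [Fact p.Prime] (f : E →* G) (x : G) (σ : E ≃* E) (hσ : ∀ e, f (σ e) = x * f e * x⁻¹)
    (hσp : ∀ e, (σ : E → E)^[p] e = e) {W : G → ℂ} (hW : IsCharacter G W)
    (hfree : ∀ η : E → ℂ, IsIrrCharacter E η → classInner (W ∘ f) η ≠ 0 → η ∘ σ ≠ η)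
    (ψ : IrrCharacter G) (hψ : classInner W ψ ≠ 0) : p ∣ charDegree (ψ : G → ℂ) := by
  classical
  have : Finite (IrrCharacter G) := finite_irr
  have := Fintype.ofFinite (IrrCharacter G)
  have : Finite (IrrCharacter E) := finite_irr
  have := Fintype.ofFinite (IrrCharacter E)
  obtain ⟨m, hm⟩ := exists_nat_comb hW
  have hnat : ∀ (χ : IrrCharacter G) (η : IrrCharacter E),
      ∃ n : ℕ, classInner ((χ : G → ℂ) ∘ f) (η : E → ℂ) = n := fun χ η =>
    classInner_isNat (isCharacter_comp f (isIrr_isCharacter χ.2)) (isIrr_isCharacter η.2)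
  choose n hn using hnat
  have hmψ : m ψ ≠ 0 := by
    intro h0
    apply hψ
    have h1 : W = ∑ χ : IrrCharacter G, (m χ : ℂ) • (χ : G → ℂ) := by
      funext g
      rw [hm]
      simp [Finset.sum_apply]
    rw [h1, classInner_sum_left, Finset.sum_eq_zero]
    intro χ _
    rw [classInner_smul_left]
    by_cases h2 : χ = ψ
    · rw [h2, h0]; simp
    · rw [classInner_irr_ne χ.2 ψ.2 (fun h3 => h2 (Subtype.ext h3)), mul_zero]
  -- a constituent of the restriction of `ψ` is a constituent of the restriction of `W`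
  have hsum : ∀ η : IrrCharacter E, classInner (W ∘ f) (η : E → ℂ) = ((∑ χ : IrrCharacter G, m χ * n χ η : ℕ) : ℂ) := by
    intro η
    have h1 : W ∘ f = ∑ χ : IrrCharacter G, (m χ : ℂ) • ((χ : G → ℂ) ∘ f) := by
      funext e
      rw [Function.comp_apply, hm]
      simp [Finset.sum_apply]
    rw [h1, classInner_sum_left]
    push_cast
    refine Finset.sum_congr rfl fun χ _ => ?_
    rw [classInner_smul_left, hn]
  have hcon : ∀ η : IrrCharacter E, n ψ η ≠ 0 → (η : E → ℂ) ∘ σ ≠ η := by
    intro η h0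
    refine hfree η η.2 ?_
    rw [hsum]
    intro h1
    have h2 : ∑ χ : IrrCharacter G, m χ * n χ η = 0 := by exact_mod_cast h1
    have h3 := (Finset.sum_eq_zero_iff.1 h2) ψ (Finset.mem_univ ψ)
    rcases mul_eq_zero.1 h3 with h4 | h4
    · exact hmψ h4
    · exact h0 h4
  -- the permutation of the irreducible characters
  have hirr : ∀ (s : E ≃* E) (η : IrrCharacter E), IsIrrCharacter E ((η : E → ℂ) ∘ s) := fun s η =>
    isIrr_comp s.toMonoidHom s.surjective η.2
  let τ : Equiv.Perm (IrrCharacter E) :=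
    { toFun := fun η => ⟨(η : E → ℂ) ∘ σ, hirr σ η⟩
      invFun := fun η => ⟨(η : E → ℂ) ∘ σ.symm, hirr σ.symm η⟩
      left_inv := fun η => by
        apply Subtype.ext
        funext e
        show (η : E → ℂ) (σ (σ.symm e)) = _
        rw [σ.apply_symm_apply]
      right_inv := fun η => by
        apply Subtype.ext
        funext e
        show (η : E → ℂ) (σ.symm (σ e)) = _
        rw [σ.symm_apply_apply] }
  have hτpow : ∀ (k : ℕ) (η : IrrCharacter E), ((τ ^ k) η : E → ℂ) = (η : E → ℂ) ∘ (σ : E → E)^[k] := by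
    intro k
    induction k with
    | zero => intro η; rfl
    | succ k ih =>
      intro η
      rw [pow_succ', Equiv.Perm.mul_apply]
      show ((τ ^ k) η : E → ℂ) ∘ σ = _
      rw [ih, Function.iterate_succ]
      rfl
  have hτp : τ ^ p = 1 := by
    apply Equiv.ext
    intro η
    apply Subtype.ext
    rw [hτpow]
    funext e
    rw [Function.comp_apply, hσp]
    rfl
  -- invariance of the multiplicities
  have hcl : ∀ (g h : G), (ψ : G → ℂ) (g * h * g⁻¹) = (ψ : G → ℂ) h := by
    intro g h
    exact isIrr_isClassFunction ψ.2 h g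
  have hinv : ∀ η : IrrCharacter E, n ψ (τ η) = n ψ η := by
    intro η
    have h1 : classInner ((ψ : G → ℂ) ∘ f) (τ η : E → ℂ) = classInner ((ψ : G → ℂ) ∘ f) (η : E → ℂ) := by
      rw [classInner_def, classInner_def]
      congr 1
      rw [← Equiv.sum_comp σ.toEquiv (fun e => ((ψ : G → ℂ) ∘ f) e * conj ((η : E → ℂ) e))]
      refine Finset.sum_congr rfl fun e _ => ?_
      show (ψ : G → ℂ) (f e) * conj ((η : E → ℂ) (σ e)) = (ψ : G → ℂ) (f (σ e)) * conj ((η : E → ℂ) (σ e))
      rw [hσ, hcl]
    rw [hn, hn] at h1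
    exact_mod_cast h1
  -- the degree
  have hdeg : ((charDegree (ψ : G → ℂ) : ℕ) : ℂ) =
      ((∑ η : IrrCharacter E, n ψ η * charDegree (η : E → ℂ) : ℕ) : ℂ) := by
    obtain ⟨c, hc⟩ := exists_nat_comb (isCharacter_comp f (isIrr_isCharacter ψ.2))
    have h1 : (ψ : G → ℂ) ∘ f = ∑ η : IrrCharacter E, (c η : ℂ) • (η : E → ℂ) := by
      funext e
      rw [hc]
      simp [Finset.sum_apply]
    have hcn : ∀ η : IrrCharacter E, c η = n ψ η := by
      intro η
      have h2 := hn ψ η
      rw [h1, classInner_sum_left, Finset.sum_eq_single η] at h2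
      · rw [classInner_smul_left, classInner_irr_self η.2, mul_one] at h2
        exact_mod_cast h2
      · intro θ _ hθ
        rw [classInner_smul_left, classInner_irr_ne θ.2 η.2 (fun h3 => hθ (Subtype.ext h3)), mul_zero]
      · intro h3
        exact absurd (Finset.mem_univ _) h3
    have h3 := congrFun h1 1
    rw [Function.comp_apply, map_one, Cfsg.Agent.Blocks.Basic.irr_one_eq_charDegree ψ.2] at h3
    rw [h3, Finset.sum_apply]
    push_cast
    refine Finset.sum_congr rfl fun η _ => ?_
    rw [Pi.smul_apply, smul_eq_mul, hcn, Cfsg.Agent.Blocks.Basic.irr_one_eq_charDegree η.2]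
  have hdeg' : charDegree (ψ : G → ℂ) = ∑ η : IrrCharacter E, n ψ η * charDegree (η : E → ℂ) := by exact_mod_cast hdeg
  rw [hdeg']
  refine dvd_sum_of_free p τ hτp _ ?_ ?_
  · intro η
    rw [hinv]
    congr 1
    show charDegree ((η : E → ℂ) ∘ σ) = _
    unfold charDegree
    rw [Function.comp_apply, map_one]
  · intro η h0 h1
    exact hcon η (left_ne_zero_of_mul h0) (congrArg Subtype.val h1)

/-- The existence of a constituent. -/
theorem exists_constituent {W : G → ℂ} (hW : IsCharacter G W) (h0 : W ≠ 0) : ∃ ψ : IrrCharacter G, classInner W ψ ≠ 0 := by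
  classical
  have : Finite (IrrCharacter G) := finite_irr
  have := Fintype.ofFinite (IrrCharacter G)
  by_contra hcon
  push Not at hcon
  apply h0
  refine classFunction_ext (isCharacter_isClassFunction hW) (by intro x y; rfl) fun η hη => ?_
  rw [hcon ⟨η, hη⟩, classInner_zero_left]

theorem IM_of_free (p : ℕ) [Fact p.Prime] (f : E →* G) (x : G) (σ : E ≃* E) (hσ : ∀ e, f (σ e) = x * f e * x⁻¹)
    (hσp : ∀ e, (σ : E → E)^[p] e = e) {W : G → ℂ} (hW : IsCharacter G W) (hW0 : W ≠ 0) {J : Type*} [Fintype J]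
    (c : J → ℂ) (lam : J → E → ℂ) (hlam : ∀ j, IsIrrCharacter E (lam j)) (hWf : W ∘ f = ∑ j, c j • lam j)
    (hfree : ∀ j, c j ≠ 0 → lam j ∘ σ ≠ lam j) : IM p G := by
  classical
  obtain ⟨ψ, hψ⟩ := exists_constituent hW hW0
  refine ⟨ψ, dvd_of_free p f x σ hσ hσp hW ?_ ψ hψ⟩
  intro η hη h0
  have h1 : ∃ j, c j ≠ 0 ∧ lam j = η := by
    by_contra hcon
    push Not at hcon
    apply h0
    rw [hWf, classInner_sum_left, Finset.sum_eq_zero]
    intro j _
    rw [classInner_smul_left]
    by_cases hc : c j = 0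
    · rw [hc, zero_mul]
    · rw [classInner_irr_ne (hlam j) hη (hcon j hc), mul_zero]
  obtain ⟨j, hj, rfl⟩ := h1
  exact hfree j hj

end

/-! ### descent -/

theorem isCharacter_descend {G : Type*} [Group G] [Finite G] (N : Subgroup G) [N.Normal] {W : G ⧸ N → ℂ}
    (h : IsCharacter G (W ∘ QuotientGroup.mk' N)) : IsCharacter (G ⧸ N) W := by
  classical
  have := Fintype.ofFinite G
  obtain ⟨n, ρ, hρ⟩ := h
  have h1 : ρ.character 1 = n := by
    rw [Representation.char_one]
    simp
  have hker : N ≤ ρ.ker := by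
    intro g hg
    have h2 := Cfsg.Agent.S0139.result ρ g
    have h3 : ρ.character g = n := by
      rw [← h1, hρ]
      show W (QuotientGroup.mk' N g) = W (QuotientGroup.mk' N 1)
      rw [map_one]
      congr 1
      exact (QuotientGroup.eq_one_iff g).2 hg
    rw [MonoidHom.mem_ker]
    simpa [Module.End.one_eq_id] using h2.1 (by simpa using h3)
  refine ⟨n, QuotientGroup.lift N ρ (fun g hg => MonoidHom.mem_ker.1 (hker hg)), ?_⟩
  funext q
  obtain ⟨g, rfl⟩ := QuotientGroup.mk'_surjective N q
  exact congrFun hρ g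

end Cfsg.Agent.H843.IMC
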