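import Cfsg.Agent.H843.IMC.Co2A
import Cfsg.Agent.H713.Spor.RankThree
import Cfsg.Agent.H707.Rank
import Cfsg.Agent.Leech.Basic

/-!
# `Co2`: a character of degree `2277` (helper843)

The permutation character on the 4600 vectors `w` with `w - u` minimal is the sum of the permutation character on the
2300 pairs, `23` and `2277`.
-/

set_option autoImplicit false

namespace Cfsg.Agent.H843.IMC.Co2B

open Cfsg Cfsg.Agent.H33 Cfsg.Agent.H672.SporIM Cfsg.Agent.H690.Spor.RankThree MulAction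
open Cfsg.Agent.SporadicStructure.Co2RankThree Cfsg.Agent.Characters.Core
open Cfsg.Agent.H713.Spor.RankThree (pc inner_pc_one inner_pc_self pc_one inner_ne)

/-- The 4600 vectors. -/
abbrev X : Type := {w : leechLattice // w ∈ A a0}

instance : MulAction Spor.Co2 X where
  smul γ w := ⟨toCo0 γ • w.1, (dt_smul _ _ _).trans w.2.1, (dt_smul_of_fix (toCo0_a0 γ) _).trans w.2.2⟩
  one_smul w := rfl
  mul_smul γ δ w := rfl

theorem smul_coe (γ : Spor.Co2) (w : X) : ((γ • w : X) : leechLattice) = toCo0 γ • (w : leechLattice) := rfl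

theorem card_X : Nat.card X = 4600 := ncard_A a0 dt_a0_a0

instance : Finite X := Nat.finite_of_card_ne_zero (by rw [card_X]; norm_num)

/-- The opposite point. -/
def op (w : X) : X := ⟨opp w.1, opp_mem_A w.2⟩

theorem op_op (w : X) : op (op w) = w := Subtype.ext (opp_opp w.1)

theorem op_ne (w : X) : op w ≠ w := fun h => opp_ne w.2 (congrArg Subtype.val h)

theorem smul_op (γ : Spor.Co2) (w : X) : γ • op w = op (γ • w) := Subtype.ext (smul_opp _ (toCo0_a0 γ) w.1)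

theorem dt_op (x w : X) : dt x.1 (op w).1 = 16 - dt x.1 w.1 := by
  have h4 : dt x.1 a0 = -16 := by rw [dt_comm]; exact x.2.2
  show dt x.1 (opp w.1) = _
  unfold opp
  simp only [dt_neg_right, dt_add_right]; omega

theorem eq_or_le (x y : X) : y = x ∨ dt x.1 y.1 ≤ 16 := by
  by_cases h : ((x.1 - y.1 : leechLattice) : GolayPt → ℤ) = 0
  · left
    exact (Subtype.ext (sub_eq_zero.1 (Subtype.ext h))).symm
  · right
    have h1 := Cfsg.Agent.Leech.Basic.le_sqNorm (x.1 - y.1).2 h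
    rw [norm_eq, dt_sub_left, dt_sub_right, dt_sub_right, x.2.1, y.2.1, dt_comm y.1 x.1] at h1
    omega

theorem cases (x y : X) : y = x ∨ y = op x ∨ dt x.1 y.1 = 0 ∨ dt x.1 y.1 = 16 ∨ dt x.1 y.1 = 8 := by
  rcases eq_or_le x y with h | h
  · exact Or.inl h
  rcases eq_or_le x (op y) with h' | h'
  · right; left
    rw [← h', op_op]
  · right; right
    rw [dt_op] at h'
    obtain ⟨k, hk⟩ := Cfsg.Agent.Leech.Basic.eight_dvd_dotInt x.1.2 y.1.2
    have hk' : dt x.1 y.1 = 8 * k := hk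
    omega

theorem exists_smul (x y : X) : ∃ γ : Spor.Co2, γ • x = y := by
  obtain ⟨g, hg, hg'⟩ := exists_A a0 x.1 y.1 dt_a0_a0 x.2 y.2
  exact ⟨ofCo0 g hg, Subtype.ext hg'⟩

instance : IsPretransitive Spor.Co2 X := ⟨exists_smul⟩

theorem exists_smul_O0 (x y z : X) (hy : dt x.1 y.1 = 0) (hz : dt x.1 z.1 = 0) :
    ∃ γ : Spor.Co2, γ • x = x ∧ γ • y = z := by
  obtain ⟨g, hg, hg', h⟩ := trans_O0 a0 x.1 y.1 z.1 dt_a0_a0 x.2 ⟨y.2.1, y.2.2, hy⟩ ⟨z.2.1, z.2.2, hz⟩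
  exact ⟨ofCo0 g hg, Subtype.ext hg', Subtype.ext h⟩

theorem exists_smul_O8 (x y z : X) (hy : dt x.1 y.1 = 8) (hz : dt x.1 z.1 = 8) :
    ∃ γ : Spor.Co2, γ • x = x ∧ γ • y = z := by
  obtain ⟨g, hg, hg', h⟩ := trans_O8 a0 x.1 y.1 z.1 dt_a0_a0 x.2 ⟨y.2.1, y.2.2, hy⟩ ⟨z.2.1, z.2.2, hz⟩
  exact ⟨ofCo0 g hg, Subtype.ext hg', Subtype.ext h⟩

theorem dt_smul' (γ : Spor.Co2) (x y : X) : dt (γ • x).1 (γ • y).1 = dt x.1 y.1 := dt_smul _ _ _

/-- the rank is at most five -/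
theorem rank_le : Nat.card (Quotient (orbitRel Spor.Co2 (X × X))) ≤ 5 := by
  classical
  let x : X := ⟨y1, y1_mem_A⟩
  obtain ⟨y, hy⟩ : ∃ y : X, dt x.1 y.1 = 0 := by
    obtain ⟨v, hv⟩ := Set.nonempty_of_ncard_ne_zero (s := O0 a0 y1)
      (by rw [ncard_O0 a0 y1 dt_a0_a0 y1_mem_A]; norm_num)
    exact ⟨⟨v, hv.1, hv.2.1⟩, hv.2.2⟩
  obtain ⟨z, hz⟩ : ∃ z : X, dt x.1 z.1 = 8 := by
    obtain ⟨v, hv⟩ := Set.nonempty_of_ncard_ne_zero (s := O8 a0 y1)
      (by rw [ncard_O8 a0 y1 dt_a0_a0 y1_mem_A]; norm_num)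
    exact ⟨⟨v, hv.1, hv.2.1⟩, hv.2.2⟩
  rw [Cfsg.Agent.H707.Rank.card_orbits_prod x (stabilizer Spor.Co2 x) (fun g => mem_stabilizer_iff)]
  refine Cfsg.Agent.H707.Rank.card_orbits_le X ![x, op x, y, op y, z] ?_
  intro w
  rcases cases x w with h | h | h | h | h
  · exact ⟨0, by rw [h]; exact mem_orbit_self _⟩
  · exact ⟨1, by rw [h]; exact mem_orbit_self _⟩
  · obtain ⟨γ, h1, h2⟩ := exists_smul_O0 x y w hy h
    exact ⟨2, ⟨γ, h1⟩, h2⟩
  · obtain ⟨γ, h1, h2⟩ := exists_smul_O0 x y (op w) hy (by rw [dt_op, h]; norm_num)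
    refine ⟨3, ⟨γ, h1⟩, ?_⟩
    show γ • op y = w
    rw [smul_op, h2, op_op]
  · obtain ⟨γ, h1, h2⟩ := exists_smul_O8 x z w hz h
    exact ⟨4, ⟨γ, h1⟩, h2⟩

/-! ### the pairs -/

/-- Two points are equivalent if they are equal or opposite. -/
def st : Setoid X where
  r x y := y = x ∨ y = op x
  iseqv := {
    refl := fun x => Or.inl rfl
    symm := by
      rintro x y (h | h)
      · exact Or.inl h.symm
      · right
        rw [h, op_op]
    trans := by
      rintro x y z (rfl | rfl) (rfl | rfl)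
      · exact Or.inl rfl
      · exact Or.inr rfl
      · exact Or.inr rfl
      · left
        rw [op_op] }

/-- The 2300 pairs. -/
abbrev Y : Type := Quotient st

instance : MulAction Spor.Co2 Y where
  smul g := Quotient.map (fun x => g • x) (by
    rintro x y (rfl | rfl)
    · exact Or.inl rfl
    · right
      exact smul_op g x)
  one_smul y := by
    obtain ⟨x, rfl⟩ := Quotient.exists_rep y
    exact congrArg _ (one_smul _ x)
  mul_smul g h y := by
    obtain ⟨x, rfl⟩ := Quotient.exists_rep y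
    exact congrArg _ (mul_smul g h x)

/-- The pair of a point. -/
def mk (x : X) : Y := Quotient.mk st x

theorem smul_mk (g : Spor.Co2) (x : X) : g • mk x = mk (g • x) := rfl

theorem mk_eq (x y : X) : mk x = mk y ↔ y = x ∨ y = op x := Quotient.eq

theorem mk_op (x : X) : mk (op x) = mk x := ((mk_eq x (op x)).2 (Or.inr rfl)).symm

theorem exists_mk (y : Y) : ∃ x, mk x = y := Quotient.exists_rep y

theorem card_Y : Nat.card Y = 2300 := by
  classical
  have h1 : Nat.card X = 2 * Nat.card Y := by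
    have e : X ≃ Σ y : Y, {x : X // mk x = y} := (Equiv.sigmaFiberEquiv (fun x : X => mk x)).symm
    have := Fintype.ofFinite X
    have := Fintype.ofFinite Y
    rw [Nat.card_congr e, Nat.card_sigma, Finset.sum_congr rfl (g := fun _ => 2), Finset.sum_const, Finset.card_univ,
      smul_eq_mul, mul_comm, Nat.card_eq_fintype_card]
    intro y _
    obtain ⟨x, rfl⟩ := exists_mk y
    have h2 : {z : X | mk z = mk x} = {x, op x} := by
      ext z
      show mk z = mk x ↔ _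
      rw [eq_comm, mk_eq]
      rfl
    have h3 : Nat.card {z : X // mk z = mk x} = ({z : X | mk z = mk x}).ncard := rfl
    rw [h3, h2, Set.ncard_pair (op_ne x).symm]
  rw [card_X] at h1
  omega

instance : Finite Y := Nat.finite_of_card_ne_zero (by rw [card_Y]; norm_num)

/-- Orthogonality. -/
def R (a b : Y) : Prop := ∃ x y : X, mk x = a ∧ mk y = b ∧ dt x.1 y.1 = 0

theorem dt_op_left (x w : X) : dt (op x).1 w.1 = 16 - dt x.1 w.1 := by
  rw [dt_comm, dt_op, dt_comm]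

theorem R_mk (x y : X) : R (mk x) (mk y) ↔ dt x.1 y.1 = 0 ∨ dt x.1 y.1 = 16 := by
  constructor
  · rintro ⟨u, v, h1, h2, h3⟩
    rcases (mk_eq u x).1 h1 with rfl | rfl <;> rcases (mk_eq v y).1 h2 with rfl | rfl
    · exact Or.inl h3
    · right; rw [dt_op, h3]; norm_num
    · right; rw [dt_op_left, h3]; norm_num
    · left; rw [dt_op, dt_op_left, h3]; norm_num
  · rintro (h | h)
    · exact ⟨x, y, rfl, rfl, h⟩
    · exact ⟨x, op y, rfl, mk_op y, by rw [dt_op, h]; norm_num⟩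

theorem r3 : R3 Spor.Co2 Y R 891 1408 where
  trans := ⟨fun a b => by
    obtain ⟨x, rfl⟩ := exists_mk a
    obtain ⟨y, rfl⟩ := exists_mk b
    obtain ⟨γ, h⟩ := exists_smul x y
    exact ⟨γ, by rw [smul_mk, h]⟩⟩
  symm := by
    rintro a b ⟨x, y, h1, h2, h3⟩
    exact ⟨y, x, h2, h1, by rw [dt_comm]; exact h3⟩
  irr := by
    intro a
    obtain ⟨x, rfl⟩ := exists_mk a
    rw [R_mk, x.2.1]
    norm_num
  inv := by
    rintro γ a b ⟨x, y, rfl, rfl, h3⟩
    exact ⟨γ • x, γ • y, rfl, rfl, by rw [dt_smul']; exact h3⟩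
  one := by
    rintro a b a' b' ⟨x, y, rfl, rfl, h3⟩ ⟨x', y', rfl, rfl, h3'⟩
    obtain ⟨γ, h⟩ := exists_smul x x'
    obtain ⟨δ, h4, h5⟩ := exists_smul_O0 x' (γ • y) y' (by rw [← h, dt_smul']; exact h3) h3'
    refine ⟨δ * γ, ?_, ?_⟩
    · rw [smul_mk, mul_smul, h, h4]
    · rw [smul_mk, mul_smul, h5]
  two := by
    intro a b a' b' h1 h2 h1' h2'
    obtain ⟨x, rfl⟩ := exists_mk a
    obtain ⟨y, rfl⟩ := exists_mk b
    obtain ⟨x', rfl⟩ := exists_mk a'
    obtain ⟨y', rfl⟩ := exists_mk b'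
    have key : ∀ x y : X, mk x ≠ mk y → ¬ R (mk x) (mk y) → dt x.1 y.1 = 8 := by
      intro x y h1 h2
      rw [R_mk] at h2
      rcases cases x y with h | h | h | h | h
      · exact absurd ((mk_eq x y).2 (Or.inl h)) h1
      · exact absurd ((mk_eq x y).2 (Or.inr h)) h1
      · exact absurd (Or.inl h) h2
      · exact absurd (Or.inr h) h2
      · exact h
    have h3 := key x y h1 h2
    have h3' := key x' y' h1' h2'
    obtain ⟨γ, h⟩ := exists_smul x x'
    obtain ⟨δ, h4, h5⟩ := exists_smul_O8 x' (γ • y) y' (by rw [← h, dt_smul']; exact h3) h3'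
    refine ⟨δ * γ, ?_, ?_⟩
    · rw [smul_mk, mul_smul, h, h4]
    · rw [smul_mk, mul_smul, h5]
  cardk := by
    intro a
    obtain ⟨x, rfl⟩ := exists_mk a
    rw [← ncard_O0 a0 x.1 dt_a0_a0 x.2]
    symm
    refine Nat.card_congr (Equiv.ofBijective
      (fun v : O0 a0 x.1 => (⟨mk ⟨v.1, v.2.1, v.2.2.1⟩, ⟨x, ⟨v.1, v.2.1, v.2.2.1⟩, rfl, rfl, v.2.2.2⟩⟩ :
        {y // R (mk x) y})) ⟨?_, ?_⟩)
    · rintro ⟨v, hv⟩ ⟨w, hw⟩ h
      have h1 : mk ⟨v, hv.1, hv.2.1⟩ = mk ⟨w, hw.1, hw.2.1⟩ := congrArg Subtype.val h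
      rcases (mk_eq _ _).1 h1 with h2 | h2
      · exact Subtype.ext (congrArg Subtype.val h2).symm
      · exfalso
        have h3 := dt_op x ⟨v, hv.1, hv.2.1⟩
        rw [← h2] at h3
        have h4 : dt x.1 w = 0 := hw.2.2
        have h5 : dt x.1 v = 0 := hv.2.2
        simp only [h4, h5] at h3
        omega
    · rintro ⟨b, hb⟩
      obtain ⟨y, rfl⟩ := exists_mk b
      rcases (R_mk x y).1 hb with h | h
      · exact ⟨⟨y.1, y.2.1, y.2.2, h⟩, rfl⟩
      · refine ⟨⟨(op y).1, (op y).2.1, (op y).2.2, by rw [dt_op, h]; norm_num⟩, ?_⟩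
        exact Subtype.ext (mk_op y)
  k0 := by norm_num
  l0 := by norm_num
  cardn := by rw [card_Y]

instance : IsPretransitive Spor.Co2 Y := r3.trans

/-! ### the character of degree 2277 -/

theorem inner_pc_pc {G : Type*} [Group G] [Fintype G] (X Y : Type*) [MulAction G X] [MulAction G Y] [Finite X]
    [Finite Y] : classInner (pc G X) (pc G Y) = (Nat.card (Quotient (orbitRel G (X × Y))) : ℂ) := by
  rw [classInner_def, ← Cfsg.Agent.S0157.avg_fixedBy (G := G) (X × Y)]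
  congr 1
  refine Finset.sum_congr rfl fun g _ => ?_
  rw [Cfsg.Agent.S0157.card_fixedBy_prod, pc, pc, Complex.conj_natCast]
  push_cast
  rfl

theorem rank_mono : Nat.card (Quotient (orbitRel Spor.Co2 (Y × Y))) ≤
    Nat.card (Quotient (orbitRel Spor.Co2 (X × Y))) := by
  have : Finite (Quotient (orbitRel Spor.Co2 (X × Y))) := Quotient.finite _
  refine Nat.card_le_card_of_surjective (Quotient.map (fun p : X × Y => (mk p.1, p.2)) ?_) ?_
  · rintro ⟨a, b⟩ ⟨c, d⟩ ⟨g, hg⟩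
    have h1 : g • c = a := congrArg Prod.fst hg
    have h2 : g • d = b := congrArg Prod.snd hg
    exact ⟨g, Prod.ext (by show g • mk c = mk a; rw [smul_mk, h1]) h2⟩
  · intro q
    induction q using Quotient.inductionOn with | _ p =>
    obtain ⟨a, b⟩ := p
    obtain ⟨x, rfl⟩ := exists_mk a
    exact ⟨Quotient.mk _ (x, b), rfl⟩

theorem hasDeg_2277 : HasDeg Spor.Co2 2277 := by
  classical
  have := Fintype.ofFinite Spor.Co2
  have := Fintype.ofFinite Y
  have hne : Nonempty X := ⟨⟨y1, y1_mem_A⟩⟩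
  have hne' : Nonempty Y := ⟨mk ⟨y1, y1_mem_A⟩⟩
  obtain ⟨χ₁, χ₂, h1, h2, h3⟩ := Co2A.of_R3 Co2A.card_co2 r3
  obtain ⟨μ, hμ⟩ := Co2A.exists_mu
  have hμ23 : charDegree (μ : Spor.Co2 → ℂ) = 23 := by
    obtain ⟨μ', h'⟩ := Co2A.hasDeg_23
    have h4 := hμ 1
    have h6 : Cfsg.Agent.H419.LeechIrr.lchi Cfsg.Agent.H419.Spor.Co2.inc 1 = 24 := by
      rw [Cfsg.Agent.H419.LeechIrr.lchi, map_one, Cfsg.Agent.SigZeroCo2.Lin.tr8_one]
      norm_num
    rw [h6, Cfsg.Agent.Blocks.Basic.irr_one_eq_charDegree μ.2] at h4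
    have : (24 : ℂ) = ((1 + charDegree (μ : Spor.Co2 → ℂ) : ℕ) : ℂ) := by rw [h4]; push_cast; ring
    have h9 : 24 = 1 + charDegree (μ : Spor.Co2 → ℂ) := by exact_mod_cast this
    omega
  have ne_of_deg : ∀ {α β : IrrCharacter Spor.Co2}, charDegree (α : Spor.Co2 → ℂ) ≠ charDegree (β : Spor.Co2 → ℂ) →
      (α : Spor.Co2 → ℂ) ≠ β := by
    intro α β h hcon
    exact h (by rw [hcon])
  have hone : charDegree (1 : Spor.Co2 → ℂ) = 1 := by
    unfold charDegree
    simp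
  have hμ1 : (μ : Spor.Co2 → ℂ) ≠ 1 := by
    intro h
    rw [h, hone] at hμ23
    omega
  have hχ1 : (χ₁ : Spor.Co2 → ℂ) ≠ 1 := by
    intro h
    rw [h, hone] at h1
    omega
  have hχ2 : (χ₂ : Spor.Co2 → ℂ) ≠ 1 := by
    intro h
    rw [h, hone] at h2
    omega
  have h12 : (χ₁ : Spor.Co2 → ℂ) ≠ χ₂ := ne_of_deg (by rw [h1, h2]; norm_num)
  have h1μ : (χ₁ : Spor.Co2 → ℂ) ≠ μ := ne_of_deg (by rw [h1, hμ23]; norm_num)
  have h2μ : (χ₂ : Spor.Co2 → ℂ) ≠ μ := ne_of_deg (by rw [h2, hμ23]; norm_num)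
  -- the permutation character of the pairs
  have hY : pc Spor.Co2 Y = 1 + (χ₁ : Spor.Co2 → ℂ) + (χ₂ : Spor.Co2 → ℂ) := by
    funext g
    exact h3 g
  have hYY : classInner (pc Spor.Co2 Y) (pc Spor.Co2 Y) = 3 := by
    rw [hY]
    simp only [classInner_add_left, classInner_add_right]
    rw [classInner_irr_self isIrr_one, classInner_irr_self χ₁.2, classInner_irr_self χ₂.2,
      classInner_irr_ne isIrr_one χ₁.2 hχ1.symm, classInner_irr_ne isIrr_one χ₂.2 hχ2.symm,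
      classInner_irr_ne χ₁.2 isIrr_one hχ1, classInner_irr_ne χ₂.2 isIrr_one hχ2,
      classInner_irr_ne χ₁.2 χ₂.2 h12, classInner_irr_ne χ₂.2 χ₁.2 h12.symm]
    norm_num
  have hYμ : classInner (pc Spor.Co2 Y) (μ : Spor.Co2 → ℂ) = 0 := by
    rw [hY]
    simp only [classInner_add_left]
    rw [classInner_irr_ne isIrr_one μ.2 hμ1.symm, classInner_irr_ne χ₁.2 μ.2 h1μ, classInner_irr_ne χ₂.2 μ.2 h2μ]
    norm_num
  have hμY : classInner (μ : Spor.Co2 → ℂ) (pc Spor.Co2 Y) = 0 := by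
    rw [← classInner_conj_symm, hYμ, map_zero]
  -- the numbers of orbits
  obtain ⟨N1, hN1⟩ : ∃ n : ℕ, n = Nat.card (Quotient (orbitRel Spor.Co2 (X × X))) := ⟨_, rfl⟩
  obtain ⟨N2, hN2⟩ : ∃ n : ℕ, n = Nat.card (Quotient (orbitRel Spor.Co2 (X × Y))) := ⟨_, rfl⟩
  have hN1' : N1 ≤ 5 := by rw [hN1]; exact rank_le
  have hN3 : Nat.card (Quotient (orbitRel Spor.Co2 (Y × Y))) = 3 := by
    have h4 := inner_pc_self (G := Spor.Co2) Y
    rw [hYY] at h4
    exact_mod_cast h4.symm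
  have hN2' : 3 ≤ N2 := by rw [hN2, ← hN3]; exact rank_mono
  have hXX : classInner (pc Spor.Co2 X) (pc Spor.Co2 X) = N1 := by rw [hN1]; exact inner_pc_self X
  have hXY : classInner (pc Spor.Co2 X) (pc Spor.Co2 Y) = N2 := by rw [hN2]; exact inner_pc_pc X Y
  have hYX : classInner (pc Spor.Co2 Y) (pc Spor.Co2 X) = N2 := by
    rw [← classInner_conj_symm, hXY, Complex.conj_natCast]
  -- the character of degree 23
  have hXμ : classInner (pc Spor.Co2 X) (μ : Spor.Co2 → ℂ) ≠ 0 := by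
    refine inner_ne Cfsg.Agent.H419.Spor.Co2.inc μ hμ1 (d := 1) (fun g => by rw [hμ g]; norm_num) X
      (fun x => Cfsg.Agent.H419.Spor.Co2.c • x.1) ?_ ?_
    · intro γ x
      show Cfsg.Agent.H419.Spor.Co2.c • (toCo0 γ • x.1) =
        (Cfsg.Agent.H419.Spor.Co2.c * toCo0 γ * Cfsg.Agent.H419.Spor.Co2.c⁻¹) • Cfsg.Agent.H419.Spor.Co2.c • x.1
      rw [mul_smul, mul_smul, inv_smul_smul]
    · intro x
      obtain ⟨γ, hγ⟩ := exists_smul x (op x)
      refine ⟨γ, fun hcon => op_ne x ?_⟩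
      rw [← hγ]
      apply Subtype.ext
      have h4 : Cfsg.Agent.H419.Spor.Co2.inc γ • Cfsg.Agent.H419.Spor.Co2.c • x.1 =
          Cfsg.Agent.H419.Spor.Co2.c • (toCo0 γ • x.1) := by
        show (Cfsg.Agent.H419.Spor.Co2.c * toCo0 γ * Cfsg.Agent.H419.Spor.Co2.c⁻¹) • Cfsg.Agent.H419.Spor.Co2.c • x.1 = _
        rw [mul_smul, mul_smul, inv_smul_smul]
      rw [h4] at hcon
      exact MulAction.injective Cfsg.Agent.H419.Spor.Co2.c hcon
  obtain ⟨m, hm⟩ := classInner_isNat (Cfsg.Agent.S0157.isCharacter_fixedBy (G := Spor.Co2) X) (isIrr_isCharacter μ.2)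
  change classInner (pc Spor.Co2 X) μ = m at hm
  have hm0 : m ≠ 0 := by
    rintro rfl
    exact hXμ (by rw [hm]; norm_num)
  have hm' : classInner (μ : Spor.Co2 → ℂ) (pc Spor.Co2 X) = m := by
    rw [← classInner_conj_symm, hm, Complex.conj_natCast]
  -- the difference
  set ψ : Spor.Co2 → ℂ := pc Spor.Co2 X - (pc Spor.Co2 Y + (μ : Spor.Co2 → ℂ)) with hψ
  have hgen : IsGeneralizedCharacter Spor.Co2 ψ := by
    rw [isGeneralizedCharacter_def]
    exact ⟨_, _, Cfsg.Agent.S0157.isCharacter_fixedBy X,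
      isCharacter_add (Cfsg.Agent.S0157.isCharacter_fixedBy Y) (isIrr_isCharacter μ.2), rfl⟩
  have hval : ψ 1 = 2277 := by
    rw [hψ, Pi.sub_apply, Pi.add_apply, pc_one, pc_one, card_X, card_Y,
      Cfsg.Agent.Blocks.Basic.irr_one_eq_charDegree μ.2, hμ23]
    norm_num
  have hnorm : classInner ψ ψ = (((N1 : ℤ) - 2 * N2 + 4 - 2 * m : ℤ) : ℂ) := by
    rw [hψ]
    simp only [classInner_sub_left, classInner_sub_right, classInner_add_left, classInner_add_right]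
    rw [hXX, hXY, hYX, hYY, hm, hm', hYμ, hμY, classInner_irr_self μ.2]
    push_cast
    ring
  have hpos : ψ ≠ 0 := by
    intro h
    rw [h, Pi.zero_apply] at hval
    norm_num at hval
  have hnonneg : 0 < (N1 : ℤ) - 2 * N2 + 4 - 2 * m := by
    have h4 := classInner_self_eq_ofReal ψ
    rw [hnorm] at h4
    have h5 : (((N1 : ℤ) - 2 * N2 + 4 - 2 * m : ℤ) : ℝ) =
        (Nat.card Spor.Co2 : ℝ)⁻¹ * ∑ g : Spor.Co2, Complex.normSq (ψ g) := by exact_mod_cast h4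
    have h6 : (0 : ℝ) ≤ (((N1 : ℤ) - 2 * N2 + 4 - 2 * m : ℤ) : ℝ) := by
      rw [h5]
      exact mul_nonneg (by positivity) (Finset.sum_nonneg fun _ _ => Complex.normSq_nonneg _)
    have h7 : (0 : ℤ) ≤ (N1 : ℤ) - 2 * N2 + 4 - 2 * m := by exact_mod_cast h6
    refine lt_of_le_of_ne h7 fun h8 => hpos ?_
    apply classInner_self_eq_zero
    rw [hnorm, ← h8]
    norm_num
  have hone' : (N1 : ℤ) - 2 * N2 + 4 - 2 * m = 1 := by omega
  rw [hone'] at hnorm
  rcases isIrr_of_generalized hgen (by rw [hnorm]; norm_num) with h | h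
  · refine ⟨⟨ψ, h⟩, ?_⟩
    exact Cfsg.Agent.H670.PSing.charDegree_eq_of (by show ψ 1 = _; rw [hval]; norm_num)
  · exfalso
    obtain ⟨n, hn, hn'⟩ := isIrr_apply_one h
    rw [Pi.neg_apply, hval] at hn'
    have h4 : ((n : ℤ) : ℂ) + ((2277 : ℤ) : ℂ) = 0 := by
      push_cast
      rw [← hn']
      ring
    have h5 : (n : ℤ) + 2277 = 0 := by exact_mod_cast h4
    omega

end Cfsg.Agent.H843.IMC.Co2B
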