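import Cfsg.Agent.H843.IMC.Co1C

/-!
# `Co1`: characters of degrees `17250` and `80730`, conclusion (helper843)
-/

set_option autoImplicit false

namespace Cfsg.Agent.H843.IMC.Co1D

open Cfsg Cfsg.Agent.H33 Cfsg.Agent.H672.SporIM Cfsg.Agent.Characters.Core MulAction
open Cfsg.Agent.H419.LeechIrr Cfsg.Agent.SporadicStructure.Co2RankThree
open Cfsg.Agent.SporadicA.Co0Mono Cfsg.Agent.SporadicA.Co1Simple
open Cfsg.Agent.H419.Spor.Co1 (chi chi_one chi_neg psi)
open Cfsg.Agent.CoOneType.CoOneE (pr pr_surjective)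
open Cfsg.Agent.H843.IMC.Co1B Cfsg.Agent.H843.IMC.Co1C
open Cfsg.Agent.H593.IMFrame (Sub perm frame)
open Cfsg.Agent.H713.Spor.RankThree (sum_fixedBy)
open scoped ComplexConjugate

/-- The restriction of the character of degree 24 to a group fixing a vector has norm at least two. -/
theorem norm_ge {H : Type} [Group H] [Fintype H] (f : H →* Co0) (v : leechLattice) (hv : toC v ≠ 0)
    (hf : ∀ h, f h • v = v) : ∃ n : ℕ, 2 ≤ n ∧ classInner (lchi f) (lchi f) = n := by
  obtain ⟨n, hn⟩ := classInner_isNat (isCharacter_lchi f) (isCharacter_lchi f)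
  refine ⟨n, ?_, hn⟩
  have h1 : lchi f 1 = 24 := by
    rw [lchi, map_one, Cfsg.Agent.SigZeroCo2.Lin.tr8_one]
    norm_num
  by_contra hcon
  have hn' : n = 0 ∨ n = 1 := by omega
  rcases hn' with rfl | rfl
  · have h2 := classInner_self_eq_zero (φ := lchi f) (by rw [hn]; simp)
    rw [h2] at h1
    norm_num at h1
  · have hirr : IsIrrCharacter H (lchi f) := isIrr_of_classInner_self (isCharacter_lchi f) (by rw [hn]; simp)
    have h2 : lchi f ≠ 1 := by
      intro h
      rw [h] at h1
      norm_num at h1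
    have h3 := classInner_irr_ne hirr isIrr_one h2
    rw [classInner_lchi] at h3
    have h4 : Module.finrank ℂ (inv f) = 0 := by exact_mod_cast h3
    have h5 : toC v ∈ inv f := toC_mem_inv.2 hf
    rw [Submodule.finrank_eq_zero.1 h4] at h5
    exact hv ((Submodule.mem_bot ℂ).1 h5)

/-- The sum over `Co0` of the squares of the character of degree 24 times the numbers of fixed minimal vectors. -/
theorem sum_M [Fintype Co0] : ∃ n : ℕ, 2 * Nat.card Co0 ≤ n ∧ ∑ g : Co0, chi g * chi g * (Nat.card (fixedBy M g) : ℂ) = n := by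
  classical
  have := Fintype.ofFinite M
  have hne : Nonempty M := ⟨x0⟩
  have key : ∀ x : M, ∃ n : ℕ, 2 * Nat.card (stabilizer Co0 x) ≤ n ∧
      ∑ᶠ g : stabilizer Co0 x, chi (g : Co0) * chi (g : Co0) = n := by
    intro x
    obtain ⟨n, hn, h⟩ := norm_ge ((stabilizer Co0 x).subtype) x.1 (by
      intro h0
      have h1 : x.1 = 0 := by
        apply toC_injective
        rw [h0]
        funext i
        simp [toC]
      have h2 := x.2
      rw [h1] at h2
      have h3 : dt (0 : leechLattice) 0 = 0 := by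
        have := dt_add_left (0 : leechLattice) 0 0
        rw [add_zero] at this
        omega
      omega) (fun h => congrArg Subtype.val h.2)
    refine ⟨Nat.card (stabilizer Co0 x) * n, by rw [mul_comm 2]; exact Nat.mul_le_mul_left _ hn, ?_⟩
    rw [classInner_def, inv_mul_eq_iff_eq_mul₀ card_ne_zero_complex] at h
    rw [finsum_eq_sum_of_fintype]
    push_cast
    rw [← h]
    refine Finset.sum_congr rfl fun g _ => ?_
    show chi g * chi g = chi g * conj (chi g)
    rw [chi_real]
  choose n hn1 hn2 using key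
  refine ⟨∑ x : M, n x, ?_, ?_⟩
  · have h1 : ∑ x : M, Nat.card (stabilizer Co0 x) = Nat.card Co0 := by
      have hA := sum_fixedBy (G := Co0) M (fun _ => (1 : ℂ))
      have h2 := Cfsg.Agent.S0157.avg_fixedBy (G := Co0) M
      rw [Cfsg.Agent.S0157.card_orbits_of_pretransitive, inv_mul_eq_iff_eq_mul₀ card_ne_zero_complex, Nat.cast_one,
        mul_one] at h2
      simp only [one_mul] at hA
      rw [h2] at hA
      have h3 : ∀ x : M, ∑ᶠ g : stabilizer Co0 x, (1 : ℂ) = (Nat.card (stabilizer Co0 x) : ℂ) := by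
        intro x
        rw [finsum_eq_sum_of_fintype]
        simp [Nat.card_eq_fintype_card]
      rw [Finset.sum_congr rfl fun x _ => h3 x] at hA
      exact_mod_cast hA.symm
    rw [← h1, Finset.mul_sum]
    exact Finset.sum_le_sum fun x _ => hn1 x
  · rw [sum_fixedBy (G := Co0) M (fun g => chi g * chi g)]
    push_cast
    exact Finset.sum_congr rfl fun x _ => hn2 x

/-- Fixed vectors and fixed pairs. -/
theorem fix_add (g : Co0) : Nat.card (fixedBy M g) + Nat.card (fixedBy M (signCo0 allOne * g)) =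
    2 * Nat.card (fixedBy X g) := by
  classical
  have hd : Disjoint (fixedBy M g) (fixedBy M (signCo0 allOne * g)) := by
    rw [Set.disjoint_left]
    intro x hx hx'
    rw [mem_fixedBy] at hx hx'
    rw [mul_smul, hx, neg_smul_M] at hx'
    exact ng_ne x hx'
  have h1 : (fixedBy M g ∪ fixedBy M (signCo0 allOne * g)).ncard =
      Nat.card (fixedBy M g) + Nat.card (fixedBy M (signCo0 allOne * g)) :=
    Set.ncard_union_eq hd (Set.toFinite _) (Set.toFinite _)
  have hmem : ∀ x : M, x ∈ fixedBy M g ∪ fixedBy M (signCo0 allOne * g) ↔ mk x ∈ fixedBy X g := by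
    intro x
    rw [Set.mem_union, mem_fixedBy, mem_fixedBy, mem_fixedBy, smul_mk, eq_comm (b := mk x), mk_eq, mul_smul,
      neg_smul_M]
    constructor
    · rintro (h | h)
      · exact Or.inl h
      · right
        rw [← ng_ng (g • x), h]
    · rintro (h | h)
      · exact Or.inl h
      · right
        rw [h, ng_ng]
  have h2 := Cfsg.Agent.SporadicStructure.RankThreeIndex.two_mul_ncard_image mk ng
    (fixedBy M g ∪ fixedBy M (signCo0 allOne * g)) (Set.toFinite _) ?_ (fun w _ => ng_ne w)
    (fun w _ w' _ => by rw [eq_comm, mk_eq])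
  · rw [← h1, ← h2]
    congr 1
    have h3 : mk '' (fixedBy M g ∪ fixedBy M (signCo0 allOne * g)) = fixedBy X g := by
      ext y
      constructor
      · rintro ⟨x, hx, rfl⟩
        exact (hmem x).1 hx
      · intro hy
        obtain ⟨x, rfl⟩ := exists_mk y
        exact ⟨x, (hmem x).2 hy, rfl⟩
    rw [h3]
    rfl
  · intro w hw
    rw [hmem] at hw ⊢
    rw [mem_fixedBy] at hw ⊢
    have h3 : mk (ng w) = mk w := ((mk_eq w (ng w)).2 (Or.inr rfl)).symm
    rw [h3]
    exact hw

theorem chi_mul_neg (g : Co0) : chi (signCo0 allOne * g) = -chi g := by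
  have h1 : ∀ i, (((signCo0 allOne * g) • Cfsg.Agent.SporadicStructure.Co0Base.e8 i : leechLattice) : GolayPt → ℤ) i =
      -((g • Cfsg.Agent.SporadicStructure.Co0Base.e8 i : leechLattice) : GolayPt → ℤ) i := by
    intro i
    rw [mul_smul, allOne_smul]
    rfl
  show (Cfsg.Agent.Co2Type.Mono.tr8 (signCo0 allOne * g) : ℂ) / 8 = -((Cfsg.Agent.Co2Type.Mono.tr8 g : ℂ) / 8)
  unfold Cfsg.Agent.Co2Type.Mono.tr8
  rw [Finset.sum_congr rfl fun i _ => h1 i, Finset.sum_neg_distrib]
  push_cast
  ring

theorem sum_X [Fintype Co0] : ∃ n : ℕ, 2 * Nat.card Co0 ≤ n ∧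
    ∑ g : Co0, chi g * chi g * (Nat.card (fixedBy X g) : ℂ) = n := by
  obtain ⟨n, hn, h⟩ := sum_M
  refine ⟨n, hn, ?_⟩
  have h1 : ∑ g : Co0, chi g * chi g * (Nat.card (fixedBy M (signCo0 allOne * g)) : ℂ) = n := by
    rw [← h, ← Equiv.sum_comp (Equiv.mulLeft (signCo0 allOne)) (fun g => chi g * chi g * (Nat.card (fixedBy M g) : ℂ))]
    refine Finset.sum_congr rfl fun g _ => ?_
    rw [Equiv.coe_mulLeft, chi_mul_neg, neg_mul_neg]
  have h2 : ∑ g : Co0, chi g * chi g * ((2 : ℂ) * (Nat.card (fixedBy X g) : ℂ)) = n + n := by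
    nth_rewrite 1 [← h]
    rw [← h1, ← Finset.sum_add_distrib]
    refine Finset.sum_congr rfl fun g _ => ?_
    have h3 := fix_add g
    have h4 : ((Nat.card (fixedBy M g) : ℂ) + (Nat.card (fixedBy M (signCo0 allOne * g)) : ℂ)) =
        2 * (Nat.card (fixedBy X g) : ℂ) := by exact_mod_cast h3
    rw [← mul_add, h4]
  have h5 : (2 : ℂ) * ∑ g : Co0, chi g * chi g * (Nat.card (fixedBy X g) : ℂ) = n + n := by
    rw [← h2, Finset.mul_sum]
    exact Finset.sum_congr rfl fun g _ => by ring
  linear_combination (1 / 2 : ℂ) * h5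

/-! ### arithmetic -/

/-- The check for the degrees. -/
def chk (s f1 a : ℕ) : Bool :=
  Nat.blt s a || (!Nat.beq (4157776806543360000 % (s - a)) 0 ||
    (!Nat.beq a (s - a) && (!Nat.beq a 1 && (!Nat.beq a f1 && (!Nat.beq (s - a) 1 && (!Nat.beq (s - a) f1 &&
      (!Nat.beq (941518970152060272692428800000000 % (f1 * a * (s - a))) 0 ||
        (notSq (941518970152060272692428800000000 / (f1 * a * (s - a)))
          (root (941518970152060272692428800000000 / (f1 * a * (s - a))) 64 0 100000000000000000) ||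
        (Nat.beq f1 299 && (Nat.beq a 17250 || Nat.beq a 80730))))))))))

/-- The factorization of the order. -/
def fac : List (ℕ × ℕ) := [(2, 21), (3, 9), (5, 4), (7, 2), (11, 1), (13, 1), (23, 1)]

theorem chk299 : (divList fac).all (chk 97980 299) = true := by decide +kernel

theorem chk276 : (divList fac).all (chk 98003 276) = true := by decide +kernel

theorem mem_fac {d : ℕ} (h : d ∣ 4157776806543360000) : d ∈ divList fac := by
  refine mem_divList ?_ (by
    have : (fac.map fun x => x.1 ^ x.2).prod = 4157776806543360000 := by norm_num [fac]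
    rwa [this])
  intro x hx
  fin_cases hx <;> norm_num

theorem split4 : ∀ i j : Fin 4, i ≠ j → ∃ c d : Fin 4, c ≠ d ∧ c ≠ i ∧ c ≠ j ∧ d ≠ i ∧ d ≠ j ∧
    (Finset.univ : Finset (Fin 4)) = {i, j, c, d} := by decide

theorem dioph (f : Fin 4 → ℕ) (D : ℕ) (hdiv : ∀ i, f i ∣ 4157776806543360000) {i j : Fin 4} (hij : i ≠ j)
    (hi : f i = 1) (hj : f j = 299 ∨ f j = 276) (hsum : ∑ i, f i = 98280)
    (hprod : (∏ i, f i) * D = 941518970152060272692428800000000) (hsq : Function.Injective f → IsSquare D) :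
    (∃ i, f i = 17250) ∧ ∃ i, f i = 80730 := by
  obtain ⟨c, d, hcd, hci, hcj, hdi, hdj, huniv⟩ := split4 i j hij
  have hs : f i + (f j + (f c + f d)) = 98280 := by
    rw [← hsum, huniv, Finset.sum_insert (by simp [hij, hci.symm, hdi.symm]),
      Finset.sum_insert (by simp [hcj.symm, hdj.symm]), Finset.sum_insert (by simp [hcd]), Finset.sum_singleton]
  have hp : f i * (f j * (f c * f d)) * D = 941518970152060272692428800000000 := by
    rw [← hprod, huniv, Finset.prod_insert (by simp [hij, hci.symm, hdi.symm]),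
      Finset.prod_insert (by simp [hcj.symm, hdj.symm]), Finset.prod_insert (by simp [hcd]), Finset.prod_singleton]
  rw [hi, one_mul] at hp
  rw [hi] at hs
  have hall : ∀ x : Fin 4, x = i ∨ x = j ∨ x = c ∨ x = d := by
    intro x
    have : x ∈ (Finset.univ : Finset (Fin 4)) := Finset.mem_univ x
    rw [huniv] at this
    simpa using this
  -- the general step
  have key : ∀ (s f1 : ℕ), f j = f1 → 1 + f1 ≠ 1 → f1 ≠ 1 → f c + f d = s → (divList fac).all (chk s f1) = true →
      f1 = 299 ∧ (f c = 17250 ∨ f c = 80730) := by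
    intro s f1 hf1 _ hf11 hsum' hc
    have h1 := List.all_eq_true.1 hc (f c) (mem_fac (hdiv c))
    have hsd : s - f c = f d := by omega
    unfold chk at h1
    rw [hsd] at h1
    rw [Bool.or_eq_true] at h1
    rcases h1 with h1 | h1
    · rw [Nat.blt_eq] at h1
      omega
    rw [Bool.or_eq_true] at h1
    rcases h1 with h1 | h1
    · exact absurd (hdiv d) (mod_ne h1)
    have nb : ∀ {a b : ℕ}, (!Nat.beq a b) = true → a ≠ b := by
      intro a b h hab
      rw [hab, Nat.beq_refl] at h
      exact absurd h (by decide)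
    rw [Bool.and_eq_true, Bool.and_eq_true, Bool.and_eq_true, Bool.and_eq_true, Bool.and_eq_true] at h1
    obtain ⟨ha, hb, hc', hd', he, h1⟩ := h1
    have hinj : Function.Injective f := by
      have n1 := nb ha
      have n2 := nb hb
      have n3 := nb hc'
      have n4 := nb hd'
      have n5 := nb he
      intro x y hxy
      rcases hall x with rfl | rfl | rfl | rfl <;> rcases hall y with rfl | rfl | rfl | rfl <;>
        first
          | rfl
          | (exfalso; omega)
    obtain ⟨e, he'⟩ := hsq hinj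
    have hp' : f1 * f c * f d * (e * e) = 941518970152060272692428800000000 := by
      rw [← hp, he', hf1]
      ring
    have hpos : 0 < f1 * f c * f d := by
      apply Nat.pos_of_ne_zero
      intro h0
      rw [h0, zero_mul] at hp'
      omega
    rw [Bool.or_eq_true] at h1
    rcases h1 with h1 | h1
    · exact absurd (Dvd.intro _ hp') (mod_ne h1)
    rw [Bool.or_eq_true] at h1
    rcases h1 with h1 | h1
    · have h2 : 941518970152060272692428800000000 / (f1 * f c * f d) = e * e := by
        rw [← hp', Nat.mul_div_cancel_left _ hpos]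
      rw [h2] at h1
      exact absurd rfl (notSq_spec h1 e)
    · rw [Bool.and_eq_true, Bool.or_eq_true] at h1
      exact ⟨Nat.eq_of_beq_eq_true h1.1, h1.2.imp Nat.eq_of_beq_eq_true Nat.eq_of_beq_eq_true⟩
  rcases hj with hj | hj
  · obtain ⟨-, h | h⟩ := key 97980 299 hj (by norm_num) (by norm_num) (by omega) chk299
    · exact ⟨⟨c, h⟩, ⟨d, by omega⟩⟩
    · exact ⟨⟨d, by omega⟩, ⟨c, h⟩⟩
  · obtain ⟨h, -⟩ := key 98003 276 hj (by norm_num) (by norm_num) (by omega) chk276
    exact absurd h (by norm_num)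

/-- **`Co1` has irreducible characters of degrees `17250` and `80730`.** -/
theorem hasDeg : HasDeg Spor.Co1 17250 ∧ HasDeg Spor.Co1 80730 := by
  classical
  have := Fintype.ofFinite Co0
  have := Fintype.ofFinite Spor.Co1
  have := Fintype.ofFinite X
  obtain ⟨b, hb⟩ := exists_sub
  obtain ⟨χ, D, hinj, hperm, hsum, hprod, hsq⟩ := frame hb
  obtain ⟨ξ, hξd, hξ⟩ := exists_299
  obtain ⟨θ, hθ, hθd⟩ := exists_276
  have htrans := hb.trans
  have hne : Nonempty X := ⟨mk x0⟩
  have hperm' : perm Spor.Co1 X = ∑ i, (χ i : Spor.Co1 → ℂ) := by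
    funext g
    rw [hperm, Finset.sum_apply]
  -- a nonzero inner product gives a constituent
  have hcon : ∀ η : Spor.Co1 → ℂ, IsIrrCharacter Spor.Co1 η → classInner η (perm Spor.Co1 X) ≠ 0 →
      ∃ i, (χ i : Spor.Co1 → ℂ) = η := by
    intro η hη h0
    by_contra hcon
    push Not at hcon
    apply h0
    have h1 : classInner (perm Spor.Co1 X) η = 0 := by
      rw [hperm', classInner_sum_left, Finset.sum_eq_zero]
      intro i _
      exact classInner_irr_ne (χ i).2 hη (hcon i)
    rw [← classInner_conj_symm, h1, map_zero]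
  have hone : classInner (1 : Spor.Co1 → ℂ) (perm Spor.Co1 X) = 1 := by
    have h1 := Cfsg.Agent.H713.Spor.RankThree.inner_pc_one (G := Spor.Co1) X
    change classInner (perm Spor.Co1 X) 1 = 1 at h1
    rw [← classInner_conj_symm, h1, map_one]
  obtain ⟨i, hi⟩ := hcon 1 isIrr_one (by rw [hone]; norm_num)
  -- the inner product of the square with the permutation character
  obtain ⟨n, hn, hsumX⟩ := sum_X
  have hsq2 : classInner (1 + (ξ : Spor.Co1 → ℂ) + (θ : Spor.Co1 → ℂ)) (perm Spor.Co1 X) = n / Nat.card Co0 := by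
    rw [← Cfsg.Agent.H693.Defl.classInner_comp_surj pr pr_surjective, classInner_def, div_eq_inv_mul, ← hsumX]
    congr 1
    refine Finset.sum_congr rfl fun g _ => ?_
    have h1 : perm Spor.Co1 X (pr g) = (Nat.card (fixedBy X g) : ℂ) := rfl
    rw [h1, Complex.conj_natCast]
    congr 1
    show (1 : ℂ) + (ξ : Spor.Co1 → ℂ) (pr g) + (θ : Spor.Co1 → ℂ) (pr g) = chi g * chi g
    rw [← hξ, hθ, om, psi]
    ring
  have hj : ∃ j, charDegree (χ j : Spor.Co1 → ℂ) = 299 ∨ charDegree (χ j : Spor.Co1 → ℂ) = 276 := by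
    by_cases h1 : classInner (ξ : Spor.Co1 → ℂ) (perm Spor.Co1 X) = 0
    · by_cases h2 : classInner (θ : Spor.Co1 → ℂ) (perm Spor.Co1 X) = 0
      · exfalso
        rw [classInner_add_left, classInner_add_left, hone, h1, h2, add_zero, add_zero] at hsq2
        have h3 : (Nat.card Co0 : ℂ) ≠ 0 := card_ne_zero_complex
        rw [eq_div_iff h3, one_mul] at hsq2
        have h4 : Nat.card Co0 = n := by exact_mod_cast hsq2
        have h5 : 0 < Nat.card Co0 := Nat.card_pos
        omega
      · obtain ⟨j, hj⟩ := hcon θ θ.2 h2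
        exact ⟨j, Or.inr (by rw [hj, hθd])⟩
    · obtain ⟨j, hj⟩ := hcon ξ ξ.2 h1
      exact ⟨j, Or.inl (by rw [hj, hξd])⟩
  obtain ⟨j, hj⟩ := hj
  have hcard : Nat.card Spor.Co1 = 4157776806543360000 := Cfsg.Agent.S0399.result.2
  have hi1 : charDegree (χ i : Spor.Co1 → ℂ) = 1 := by
    rw [hi]
    unfold charDegree
    simp
  have h := dioph (fun i => charDegree (χ i : Spor.Co1 → ℂ)) D
    (fun i => by rw [← hcard]; exact Cfsg.Agent.Blocks.Knorr.charDegree_dvd (χ i).2) (i := i) (j := j)
    (by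
      rintro rfl
      rw [hi1] at hj
      omega) hi1 hj (by rw [hsum, card_X]) (by
      rw [hprod, card_X]
      decide +kernel) hsq
  obtain ⟨⟨a, ha⟩, ⟨c, hc⟩⟩ := h
  exact ⟨⟨χ a, ha⟩, ⟨χ c, hc⟩⟩

end Cfsg.Agent.H843.IMC.Co1D
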