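import Cfsg.Agent.H33.RD
import Cfsg.Agent.Blocks.CentralizerSum
import Cfsg.Agent.H649.PairInduced
import Cfsg.Agent.H593.D1Sec
import Cfsg.Agent.S0187
import Cfsg.Agent.S0907
import Cfsg.Agent.S0968
import Cfsg.Agent.S0969
import Cfsg.Agent.S4714

/-!
# An even degree divisible by a large power of `p` (helper843)

`z` of odd prime order `p` with rational character values, `θ` an irreducible character of odd degree of
`C = C_G(z)` with `z` in its kernel, of defect zero modulo `z` and invariant in the normalizer of `⟨z⟩`: the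
block of `G` induced by the block of `θ` has an even degree, and all its degrees are divisible by the
`p`-part of the index of `⟨z⟩`.
-/

set_option autoImplicit false

namespace Cfsg.Agent.H843.IMC.EvenBlock

open Cfsg
open Cfsg.Agent.Blocks.Basic Cfsg.Agent.Blocks.Local
open Cfsg.Agent.Characters.Core (finite_irr isIrr_isCharacter)
open scoped ComplexConjugate

universe u

variable {G : Type u} [Group G]

local notation "Cn(" Q ")" => Subgroup.centralizer ((Q : Subgroup G) : Set G)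

theorem exists_even_of_local [Finite G] {p : ℕ} [hp : Fact p.Prime] (hp2 : p ≠ 2)
    {z : G} (hz : orderOf z = p) (Q : Subgroup G) (hQ : Q = Subgroup.zpowers z)
    (θ : IrrCharacter Cn(Q)) (hodd : ¬ 2 ∣ charDegree (θ : Cn(Q) → ℂ))
    (hker : ∀ y : Cn(Q), (y : G) ∈ Q → (θ : Cn(Q) → ℂ) y = (θ : Cn(Q) → ℂ) 1)
    (hdeg : (Nat.card Cn(Q)).factorization p ≤ (charDegree (θ : Cn(Q) → ℂ)).factorization p + 1)
    (hconj : ∀ n ∈ Subgroup.normalizer (Q : Set G), ∀ c c' : Cn(Q), (c' : G) = n * (c : G) * n⁻¹ →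
      (θ : Cn(Q) → ℂ) c' = (θ : Cn(Q) → ℂ) c)
    (hst : ∀ g : G, g ∈ Subgroup.normalizer (Q : Set G) → (∃ k : ℕ, orderOf g = p ^ k) → g ∈ Cn(Q))
    (hrat : ∀ χ : IrrCharacter G, ∃ m : ℤ, (χ : G → ℂ) z = m) :
    ∃ χ : IrrCharacter G, 2 ∣ charDegree (χ : G → ℂ) ∧
      Q.index.factorization p ≤ (charDegree (χ : G → ℂ)).factorization p := by
  classical
  obtain ⟨M, hM⟩ := Cfsg.Agent.Blocks.Knorr.exists_isPModular p
  have : M.IsPrime := isPrime_of_isPModular hM
  have hQcard : Nat.card Q = p := by rw [hQ, Nat.card_zpowers, hz]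
  have hQp : IsPGroup p Q := IsPGroup.of_card (n := 1) (by rw [hQcard, pow_one])
  have hCz : Cn(Q) = Subgroup.centralizer ({z} : Set G) := by
    rw [hQ, Subgroup.zpowers_eq_closure, Subgroup.centralizer_closure]
  have hQC : Q ≤ Cn(Q) := by
    rw [hCz, hQ, Subgroup.zpowers_le, Subgroup.mem_centralizer_singleton_iff]
  obtain ⟨e, he⟩ : ∃ e : Set (IrrCharacter Cn(Q)), e = blockOf M (θ : Cn(Q) → ℂ) := ⟨_, rfl⟩
  have heB : IsPBlock M e := ⟨θ, he⟩
  have hθe : θ ∈ e := by rw [he]; exact mem_blockOf_self θ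
  -- `Q` inside `Cn(Q)`
  obtain ⟨D, hD⟩ : ∃ D : Subgroup Cn(Q), D = Q.subgroupOf Cn(Q) := ⟨_, rfl⟩
  have hDZ : D ≤ Subgroup.center Cn(Q) := by
    rw [hD]; exact Cfsg.Agent.H686.PairCrit.subgroupOf_le_center Q
  have hDcard : Nat.card D = p := by
    rw [hD, Nat.card_congr (Subgroup.subgroupOfEquivOfLe hQC).toEquiv, hQcard]
  have hDp : IsPGroup p D := IsPGroup.of_card (n := 1) (by rw [hDcard, pow_one])
  have hDn : D.Normal := by
    constructor
    intro x hx g
    have h1 := Subgroup.mem_center_iff.1 (hDZ hx) g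
    rw [h1, mul_inv_cancel_right]
    exact hx
  have hDcomm : ∀ a b : D, a * b = b * a := fun a b =>
    Subtype.ext ((Subgroup.mem_center_iff.1 (hDZ a.2) b).symm)
  have hrev : (charDegree (θ : Cn(Q) → ℂ)).factorization p ≤ D.index.factorization p := by
    obtain ⟨d, ρ, hρ, hχ⟩ := θ.2
    have hdvd := Cfsg.Agent.S0169.result ρ D (fun a ha b _ => ((Subgroup.mem_center_iff.1 (hDZ ha)) b).symm)
    have h2 : charDegree (θ : Cn(Q) → ℂ) = d := by
      apply H670.PSing.charDegree_eq_of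
      rw [← hχ, Representation.char_one]
      simp
    rw [Module.finrank_fin_fun, ← h2] at hdvd
    exact (Nat.factorization_le_iff_dvd (charDegree_pos θ.2).ne' Subgroup.index_ne_zero_of_finite).2 hdvd p
  have hCf : (Nat.card Cn(Q)).factorization p = 1 + D.index.factorization p := by
    rw [← D.card_mul_index, Nat.factorization_mul Nat.card_pos.ne' Subgroup.index_ne_zero_of_finite,
      Finsupp.add_apply, hDcard, hp.out.factorization_self]
  have hθdeg : (charDegree (θ : Cn(Q) → ℂ)).factorization p = D.index.factorization p := by omega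
  -- the block of `G`
  obtain ⟨B, hB⟩ := Cfsg.Agent.H686.PairCrit.crit_mpr hM (Q := Q) (e := e) ⟨hQp, heB⟩ hθe (by
      have h3 : Nat.card ↥(Q ⊓ Cn(Q)) = p := by rw [inf_eq_left.2 hQC, hQcard]
      rw [h3, hp.out.factorization_self]
      omega)
    (fun g hg _ hk => (le_sup_right : Cn(Q) ≤ _) (hst g hg hk))
  have hBb : IsPBlock M B := hB.1.2.1
  have hdef := Cfsg.Agent.H644.isDefectGroup_of_isMaximalBrauerPair hM hB
  have hind : IsInducedBlock M Cn(Q) e B :=
    (Cfsg.Agent.H649.isBrauerPairOf_iff_isInducedBlock hM hBb hQp heB).1 hB.1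
  have hval : ∀ χ ∈ B, Q.index.factorization p ≤ (charDegree (χ : G → ℂ)).factorization p := by
    intro χ hχ
    have h1 := Cfsg.Agent.H592.Defect.le_degree_add p hM hBb hdef hχ
    have h2 := Q.card_mul_index
    rw [← h2, Nat.factorization_mul Nat.card_pos.ne' Subgroup.index_ne_zero_of_finite,
      Finsupp.add_apply] at h1
    omega
  by_contra hcon
  push Not at hcon
  have hoddB : ∀ χ ∈ B, ¬ 2 ∣ charDegree (χ : G → ℂ) := fun χ hχ h =>
    absurd (hcon χ h) (not_lt.2 (hval χ hχ))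
  -- the characters of `Cn(Q)` whose block induces `B`
  have hA : ∀ ξ : IrrCharacter Cn(Q), ξ ∈ e ↔ IsInducedBlock M Cn(Q) (blockOf M (ξ : Cn(Q) → ℂ)) B := by
    intro ξ
    constructor
    · intro hξ
      rw [← isPBlock_eq_blockOf heB hξ]
      exact hind
    · intro hξ
      obtain ⟨n, hn, h1⟩ := Cfsg.Agent.H593.D1Sec.extended_first_main hM hBb Q Cn(Q)
        (le_antisymm le_sup_right (sup_le hQC le_rfl)) hdef hind hξ
      obtain ⟨θ', hθ', h2⟩ := h1 θ hθe
      have h3 : θ' = θ := by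
        apply Subtype.ext
        funext x
        have hx : n * (x : G) * n⁻¹ ∈ Cn(Q) := Cfsg.Agent.H593.D1Local.conj_mem_centralizer hn x.2
        rw [h2 x hx]
        exact hconj n hn x ⟨_, hx⟩ rfl
      rw [h3] at hθ'
      have h4 : e = blockOf M (ξ : Cn(Q) → ℂ) :=
        isPBlock_eq_of_mem heB (isPBlock_blockOf ξ) hθe hθ'
      rw [h4]
      exact mem_blockOf_self ξ
  -- the members of `e`
  have hDef : IsDefectGroup p M e D := by
    rw [he]
    exact (Cfsg.Agent.S0969.result p M hM D hDp hDZ θ hθdeg).1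
  have hDtop : D ⊔ Subgroup.centralizer (D : Set Cn(Q)) = ⊤ := by
    rw [eq_top_iff]
    refine le_trans ?_ le_sup_right
    intro c _
    rw [Subgroup.mem_centralizer_iff]
    intro d hd
    exact (Subgroup.mem_center_iff.1 (hDZ hd) c).symm
  have hcard : Nat.card e = p := by
    rw [(Cfsg.Agent.S0968.result p M hM D hDp hDtop e heB hDef).2.2, ← hDcard]
    refine (Nat.card_congr (Equiv.ofBijective ConjClasses.mk ⟨?_, ConjClasses.mk_surjective⟩)).symm
    intro a b hab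
    rw [ConjClasses.mk_eq_mk_iff_isConj, isConj_iff] at hab
    obtain ⟨c, hc⟩ := hab
    rw [← hc, hDcomm c a, mul_inv_cancel_right]
  have hdeg1 : ∀ ξ ∈ e, (ξ : Cn(Q) → ℂ) 1 = (θ : Cn(Q) → ℂ) 1 := by
    intro ξ hξ
    obtain ⟨ζ, h1, -⟩ := ((Cfsg.Agent.S4714.result p M hM D hDp hDtop e heB hDef θ hθe
      (fun y hy => hker y (Subgroup.mem_subgroupOf.1 (by rw [← hD]; exact hy)))).1 ξ).1 hξ
    have h2 := h1 1 1 (by rw [orderOf_one]; exact fun h => hp.out.one_lt.ne' (Nat.dvd_one.1 h))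
      (Commute.one_right _)
    rw [OneMemClass.coe_one, one_mul] at h2
    have h3 : (ζ : D → ℂ) 1 = 1 := Cfsg.Agent.S0187.result.1 hDcomm ζ
    rw [h2, h3, one_mul]
  -- the sums
  have hz' : ∃ k : ℕ, orderOf z = p ^ k := ⟨1, by rw [hz, pow_one]⟩
  have hsec := Cfsg.Agent.Blocks.CentralizerSum.sum_section hM z hz' hCz hBb hA 1 1
    (by rw [orderOf_one]; exact fun h => hp.out.one_lt.ne' (Nat.dvd_one.1 h))
    (by rw [orderOf_one]; exact fun h => hp.out.one_lt.ne' (Nat.dvd_one.1 h))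
  have horth := Cfsg.Agent.S0907.result p M hM B hBb 1 z
    (by rw [orderOf_one]; exact fun h => hp.out.one_lt.ne' (Nat.dvd_one.1 h)) (by rw [hz])
  choose m hm using hrat
  have : Finite (IrrCharacter G) := finite_irr
  have : Finite (IrrCharacter Cn(Q)) := finite_irr
  have := Fintype.ofFinite (IrrCharacter G)
  have := Fintype.ofFinite (IrrCharacter Cn(Q))
  have := Fintype.ofFinite e
  have e1 : ∑ᶠ χ ∈ B, (χ : G → ℂ) 1 * conj ((χ : G → ℂ) z) =
      ((∑ χ with χ ∈ B, (charDegree (χ : G → ℂ) : ℤ) * m χ : ℤ) : ℂ) := by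
    rw [finsum_mem_eq_finite_toFinset_sum _ (Set.toFinite B)]
    push_cast
    refine Finset.sum_congr (by ext; simp) fun χ _ => ?_
    rw [irr_one_eq_charDegree χ.2, hm, map_intCast]
  have e2 : ∑ᶠ χ ∈ B, (χ : G → ℂ) (z * ((1 : Cn(Q)) : G)) * conj ((χ : G → ℂ) (z * ((1 : Cn(Q)) : G))) =
      ((∑ χ with χ ∈ B, m χ * m χ : ℤ) : ℂ) := by
    rw [finsum_mem_eq_finite_toFinset_sum _ (Set.toFinite B)]
    push_cast
    refine Finset.sum_congr (by ext; simp) fun χ _ => ?_
    rw [mul_one, hm, map_intCast]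
  have e3 : ∑ᶠ ξ ∈ e, (ξ : Cn(Q) → ℂ) 1 * conj ((ξ : Cn(Q) → ℂ) 1) =
      ((p * charDegree (θ : Cn(Q) → ℂ) ^ 2 : ℤ) : ℂ) := by
    rw [← finsum_set_coe_eq_finsum_mem, finsum_eq_sum_of_fintype]
    have h1 : ∀ ξ : e, ((ξ : IrrCharacter Cn(Q)) : Cn(Q) → ℂ) 1 * conj (((ξ : IrrCharacter Cn(Q)) : Cn(Q) → ℂ) 1) =
        (charDegree (θ : Cn(Q) → ℂ) : ℂ) ^ 2 := by
      intro ξ
      rw [hdeg1 ξ ξ.2, irr_one_eq_charDegree θ.2, Complex.conj_natCast, sq]
    rw [Finset.sum_congr rfl fun ξ _ => h1 ξ, Finset.sum_const, Finset.card_univ, nsmul_eq_mul,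
      ← Nat.card_eq_fintype_card, hcard]
    push_cast
    ring
  rw [e1] at horth
  rw [e2, e3] at hsec
  have h1 : (∑ χ with χ ∈ B, (charDegree (χ : G → ℂ) : ℤ) * m χ : ℤ) = 0 := by exact_mod_cast horth
  have h2 : (∑ χ with χ ∈ B, m χ * m χ : ℤ) = p * charDegree (θ : Cn(Q) → ℂ) ^ 2 := by exact_mod_cast hsec
  have h3 : (2 : ℤ) ∣ ∑ χ with χ ∈ B, m χ * m χ := by
    have h4 : ∑ χ with χ ∈ B, m χ * m χ = ∑ χ with χ ∈ B, (m χ * m χ - (charDegree (χ : G → ℂ) : ℤ) * m χ) := by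
      rw [Finset.sum_sub_distrib, h1, sub_zero]
    rw [h4]
    refine Finset.dvd_sum fun χ hχ => ?_
    have h5 := hoddB χ (Finset.mem_filter.1 hχ).2
    have h6 : (charDegree (χ : G → ℂ) : ℤ) % 2 = 1 := by omega
    rw [← sub_mul]
    rcases Int.even_or_odd (m χ) with h7 | h7
    · exact (even_iff_two_dvd.1 h7).mul_left _
    · refine Dvd.dvd.mul_right ?_ _
      obtain ⟨k, hk⟩ := h7
      omega
  rw [h2] at h3
  have h4 : (2 : ℤ) ∣ p ∨ (2 : ℤ) ∣ (charDegree (θ : Cn(Q) → ℂ) : ℤ) := by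
    rcases Int.Prime.dvd_mul' Nat.prime_two h3 with h | h
    · exact Or.inl h
    · exact Or.inr (Int.Prime.dvd_pow' Nat.prime_two h)
  rcases h4 with h4 | h4
  · have h5 : 2 ∣ p := by exact_mod_cast h4
    exact hp2 ((Nat.prime_dvd_prime_iff_eq Nat.prime_two hp.out).1 h5).symm
  · exact hodd (by exact_mod_cast h4)

end Cfsg.Agent.H843.IMC.EvenBlock
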