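import Cfsg.Agent.H843.IMC.Co2W
import Cfsg.Agent.H843.IMC.Co2A
import Cfsg.Agent.H843.IMC.EvenBlock
import Cfsg.Agent.CpAutBig.CoZero
import Cfsg.Agent.SporadicA.GolayPerm
import Cfsg.Agent.Characters.GaloisBasic

/-!
# `Co2`: a degree divisible by 6 (helper843)
-/

set_option autoImplicit false

namespace Cfsg.Agent.H843.IMC.Co2C

open Cfsg Cfsg.Agent.SporadicA Cfsg.Agent.SporadicStructure.Co0Matrix Cfsg.Agent.CoOneType.CoEval
open Cfsg.Agent.SporadicA.Co0Mono Cfsg.Agent.SporadicA.Co1Simple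
open Cfsg.Agent.SporadicA.GolayBase (idx pt)
open Cfsg.Agent.LThreeCo1Twelve.Perm Cfsg.Agent.LThreeCo1Twelve.Mono Cfsg.Agent.LThreeCo1Twelve.Strip
open Cfsg.Agent.SporadicA.GolayPerm Cfsg.Agent.H33 Cfsg.Agent.H672.SporIM
open Cfsg.Agent.H843.IMC.Co2D Cfsg.Agent.H843.IMC.Co2Q Cfsg.Agent.H843.IMC.Co2V Cfsg.Agent.H843.IMC.Co2W
open Cfsg.Agent.H678.DG.Sph
open scoped Pointwise

local notation "ee" => Cfsg.Agent.H843.IMC.Co2D.e

/-! ### The three elements -/

theorem e34 : ee 3 * (ee 4 * ee 4) = s0 := s_word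

theorem e_comm {k : ℕ} (hk : k < 3) : ee k * s0 = s0 * ee k := by
  have h : Cfsg.Agent.LThreeCo1.Ev.eqB Cfsg.Agent.H843.IMC.Co2D.M [k, 3, 4, 4] [3, 4, 4, k] = true := by
    have h := k_comm
    rw [Bool.and_eq_true, Bool.and_eq_true] at h
    interval_cases k
    · exact h.1.1
    · exact h.1.2
    · exact h.2
  have h1 := Cfsg.Agent.LThreeCo1.Ev.eq_of_eqB Cfsg.Agent.H843.IMC.Co2D.rep h
  simp only [List.map_cons, List.map_nil, List.prod_cons, List.prod_nil, mul_one] at h1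
  rw [← e34, h1]
  simp only [mul_assoc]

theorem e_v1 {k : ℕ} (hk : k < 3) : ee k • v1 = v1 := by
  apply Subtype.ext
  have h1 := (Cfsg.Agent.H843.IMC.Co2D.rep k).apply (v := v1) (l := wl) (by decide) v1_coe
  have h2 : Cfsg.Agent.CoOneType.CoEval.ap (Cfsg.Agent.H843.IMC.Co2D.M k) wl = wl := by
    have h := chk_w
    rw [Bool.and_eq_true, Bool.and_eq_true] at h
    interval_cases k
    · exact eqL_eq h.1.1
    · exact eqL_eq h.1.2
    · exact eqL_eq h.2
  rw [h2] at h1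
  exact h1.trans v1_coe.symm

theorem e_vv {k : ℕ} (hk : k < 3) {i : ℕ} (hi : i < 82) : pvl k i < 82 ∧ ee k • vv i = vv (pvl k i) := by
  have key : ∀ j, j < 82 → eqL (Cfsg.Agent.CoOneType.CoEval.ap (Cfsg.Agent.H843.IMC.Co2D.M k) (L i)) (L j) = true → ee k • vv i = vv j := by
    intro j hj h
    apply Subtype.ext
    have h1 := (Cfsg.Agent.H843.IMC.Co2D.rep k).apply (v := vv i) (l := L i) (length_L i).le (vv_coe hi)
    rw [eqL_eq h, ← vv_coe hj] at h1
    exact h1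
  interval_cases k
  · have h := rng chk0 hi
    rw [Bool.and_eq_true, Nat.blt_eq] at h
    exact ⟨h.2, key _ h.2 h.1⟩
  · have h := rng chk1 hi
    rw [Bool.and_eq_true, Nat.blt_eq] at h
    exact ⟨h.2, key _ h.2 h.1⟩
  · have h := rng chk2 hi
    rw [Bool.and_eq_true, Nat.blt_eq] at h
    exact ⟨h.2, key _ h.2 h.1⟩

/-- The elements of the centralizer. -/
noncomputable def gK (k : ℕ) : ↥KK :=
  if hk : k < 3 then ⟨⟨ee k, e_v1 hk⟩, mem_KK.2 (e_comm hk)⟩ else 1

/-- The inclusion. -/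
noncomputable def incl : ↥KK →* ↥NN := Subgroup.inclusion KK_le

/-- The representation in the group of the quadrangle. -/
noncomputable def rhoK : ↥KK →* ↥Gam := rho.comp incl

noncomputable instance actK : MulAction ↥KK (Fin 160) := MulAction.compHom (Fin 160) rhoK

theorem smul_K (c : ↥KK) (i : Fin 160) : c • i = rhoK c • i := rfl

theorem rho_gK {k : ℕ} (hk : k < 3) (q : Fin 40) :
    (((rhoK (gK k) : ↥Gam) : Equiv.Perm (Fin 40)) q : ℕ) = pq k q := by
  have h1 := rng chkQ hk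
  have h2 := rng h1 q.2
  rw [Bool.and_eq_true, Nat.blt_eq] at h2
  have h3 : act (incl (gK k)) q = ⟨pq k q, h2.1⟩ := by
    apply act_eq
    have h4 : (((incl (gK k) : ↥NN) : Gw) : Co0) = ee k := by
      show (((gK k : ↥KK) : Gw) : Co0) = _
      rw [gK, dif_pos hk]
    rw [h4]
    have h5 := e_vv hk (i := 2 * q) (by omega)
    exact PS_eq_of_mem (e_v1 hk) (by omega) h5.1 h5.2
  show ((act (incl (gK k)) q : Fin 40) : ℕ) = _
  rw [h3]

theorem V_inv_K (g : ↥KK) : ∀ φ ∈ V, (fun x => φ (g⁻¹ • x)) ∈ V := by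
  intro φ hφ
  have h := V_inv_Gam (rhoK g) φ hφ
  rw [← map_inv] at h
  exact h

theorem exists_theta : MulAction.IsPretransitive ↥KK (Fin 160) ∧ ∃ θ : IrrCharacter ↥KK,
    charDegree (θ : ↥KK → ℂ) = 81 ∧ ∀ c : ↥KK, (θ : ↥KK → ℂ) c = (rep V V_inv_Gam).character (rhoK c) := by
  have : Finite Co0 := Cfsg.Agent.CoOneType.FrameFix.finite_co0
  obtain ⟨h1, θ, h2, h3⟩ := exists_chi rhoK (fun _ _ => rfl) V_inv_K gK fun k hk q => rho_gK hk q
  refine ⟨h1, θ, h2, fun c => ?_⟩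
  rw [h3]
  have h4 : (rep V V_inv_K) c = (rep V V_inv_Gam) (rhoK c) := by
    refine LinearMap.ext fun φ => Subtype.ext (funext fun x => ?_)
    show (φ : Fin 160 → ℂ) (rhoK c⁻¹ • x) = (φ : Fin 160 → ℂ) ((rhoK c)⁻¹ • x)
    rw [map_inv]
  show LinearMap.trace ℂ V ((rep V V_inv_K) c) = LinearMap.trace ℂ V ((rep V V_inv_Gam) (rhoK c))
  rw [h4]

/-- Powers of `x` act trivially. -/
theorem rhoK_x {y : ↥KK} (hy : (y : Gw) ∈ Subgroup.zpowers x) : rhoK y = 1 := by
  have hs : ∀ q : Fin 40, s0 • PS q = PS q := by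
    intro q
    rw [smul_PS, s0_vv (by omega), s0_vv (by omega)]
    rfl
  obtain ⟨k, hk⟩ := Subgroup.mem_zpowers_iff.1 hy
  apply Subtype.ext
  ext1 q
  show act (incl y) q = q
  apply act_eq
  have h1 : (((incl y : ↥NN) : Gw) : Co0) = s0 ^ k := by
    show (((y : ↥KK) : Gw) : Co0) = _
    rw [← hk]
    rfl
  rw [h1]
  exact (MulAction.stabilizer Co0 (PS q)).zpow_mem (MulAction.mem_stabilizer_iff.2 (hs q)) k

/-! ### The order of the centralizer -/

theorem mem_zpowers_of {c : ↥KK} (h0 : c • (0 : Fin 160) = 0) (h1 : c • (1 : Fin 160) = 1) {N : ℕ} (hN : Odd N)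
    (hc : c ^ N = 1) : (c : Gw) ∈ Subgroup.zpowers x := by
  have h2 : rhoK c = 1 := rigid h0 h1 hN (by rw [← map_pow, hc, map_one])
  exact of_rho_eq_one (n := incl c) h2 hN (by rw [← map_pow, hc, map_one])

theorem finite_K : Finite ↥KK := by
  have : Finite Co0 := Cfsg.Agent.CoOneType.FrameFix.finite_co0
  infer_instance

/-- The 3-part of the order of a transitive group of degree 160. -/
theorem card_le_of {K : Type*} [Group K] [Finite K] {X : Type*} [Finite X] [MulAction K X]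
    [MulAction.IsPretransitive K X] (hX : Nat.card X = 160) (a b : X) (Z : Subgroup K) (hZ : Nat.card Z ≤ 3)
    (h : ∀ c : K, c • a = a → c • b = b → (∃ n : ℕ, c ^ 3 ^ n = 1) → c ∈ Z) : (Nat.card K).factorization 3 ≤ 5 := by
  have hp : Fact (Nat.Prime 3) := ⟨Nat.prime_three⟩
  have hidx : (MulAction.stabilizer K a).index = 160 := by
    rw [MulAction.index_stabilizer_of_transitive, hX]
  have hcard := Subgroup.card_mul_index (MulAction.stabilizer K a)
  rw [hidx] at hcard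
  rw [← hcard, Nat.factorization_mul Nat.card_pos.ne' (by norm_num), Finsupp.add_apply,
    Nat.factorization_eq_zero_of_not_dvd (show ¬ 3 ∣ 160 by norm_num), add_zero]
  obtain ⟨P⟩ : Nonempty (Sylow 3 ↥(MulAction.stabilizer K a)) := inferInstance
  have hP := P.card_eq_multiplicity
  obtain ⟨k, hk⟩ : ∃ k, (Nat.card ↥(MulAction.stabilizer K a)).factorization 3 = k := ⟨_, rfl⟩
  rw [hk] at hP ⊢
  obtain ⟨Q, hQ⟩ : ∃ Q : Subgroup K, Q = (P : Subgroup ↥(MulAction.stabilizer K a)).map (MulAction.stabilizer K a).subtype :=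
    ⟨_, rfl⟩
  have hQc : Nat.card Q = 3 ^ k := by
    rw [hQ, Subgroup.card_map_of_injective (MulAction.stabilizer K a).subtype_injective]
    exact hP
  have hQa : ∀ c ∈ Q, c • a = a := by
    intro c hc
    rw [hQ] at hc
    obtain ⟨d, -, rfl⟩ := hc
    exact d.2
  have h1 : Nat.card (MulAction.stabilizer ↥Q b) ≤ 3 := by
    refine le_trans ?_ hZ
    refine Nat.card_le_card_of_injective (fun s => (⟨((s : ↥Q) : K), ?_⟩ : ↥Z)) ?_
    · refine h _ (hQa _ (s : ↥Q).2) ?_ ⟨k, ?_⟩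
      · exact s.2
      · rw [← hQc]
        have h2 := pow_card_eq_one' (x := (s : ↥Q))
        exact congrArg Subtype.val h2
    · intro s t hst
      exact Subtype.ext (Subtype.ext (congrArg (fun z : ↥Z => (z : K)) hst))
  have h2 := Subgroup.card_mul_index (MulAction.stabilizer ↥Q b)
  rw [hQc] at h2
  have h3 : (MulAction.stabilizer ↥Q b).index ≤ 160 := by
    rw [MulAction.index_stabilizer, ← hX]
    exact Set.ncard_le_card _
  obtain ⟨j, -, hj⟩ := (Nat.dvd_prime_pow Nat.prime_three).1 (Dvd.intro_left _ h2)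
  rw [hj] at h2 h3
  have h4 : j ≤ 4 := by
    by_contra hcon
    have : 3 ^ 5 ≤ 3 ^ j := Nat.pow_le_pow_right (by norm_num) (by omega)
    omega
  have h5 : 3 ^ k ≤ 3 ^ 5 := by
    rw [← h2]
    calc Nat.card ↥(MulAction.stabilizer ↥Q b) * 3 ^ j ≤ 3 * 3 ^ 4 :=
          Nat.mul_le_mul h1 (Nat.pow_le_pow_right (by norm_num) h4)
      _ = 3 ^ 5 := by norm_num
  exact (Nat.pow_le_pow_iff_right (by norm_num)).1 h5

theorem card_KK : (Nat.card ↥KK).factorization 3 ≤ 5 := by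
  have := finite_K
  obtain ⟨htr, -⟩ := exists_theta
  have hcard : Nat.card ↥(Subgroup.zpowers x) = 3 := by rw [Nat.card_zpowers, orderOf_x]
  refine card_le_of (X := Fin 160) (by rw [Nat.card_eq_fintype_card, Fintype.card_fin]) 0 1
    ((Subgroup.zpowers x).subgroupOf KK) ?_ ?_
  · rw [← hcard]
    exact Nat.card_le_card_of_injective (fun s => (⟨((s : ↥KK) : Gw), Subgroup.mem_subgroupOf.1 s.2⟩ : ↥(Subgroup.zpowers x)))
      fun s t hst => Subtype.ext (Subtype.ext (congrArg (fun z : ↥(Subgroup.zpowers x) => (z : Gw)) hst))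
  · rintro c h0 h1 ⟨n, hn⟩
    exact Subgroup.mem_subgroupOf.2 (mem_zpowers_of h0 h1 (Odd.pow (by decide)) hn)

/-! ### An involution inverting `x` -/

theorem isPerm_pk : isPerm pk = true := by decide +kernel

theorem isAut_pk : isAut pk = true := by decide +kernel

/-- The permutation. -/
noncomputable def tau : M24 := ⟨permOf pk isPerm_pk, permOf_mem_M24 isPerm_pk isAut_pk⟩

theorem tau_apply (p : GolayPt) : (tau : Equiv.Perm GolayPt) p = pt (papp pk (idx p)) := rfl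

theorem tau_sM : tau * sM * tau⁻¹ = sM⁻¹ := by
  rw [mul_inv_eq_iff_eq_mul, eq_inv_mul_iff_mul_eq]
  apply Subtype.ext
  ext1 p
  have h : ∀ p : GolayPt, tb (pt (papp pk (idx (tb p)))) = pt (papp pk (idx p)) := by decide +kernel
  exact h p

theorem tau_v1 : permCo0 tau • v1 = v1 := by
  apply Subtype.ext
  rw [permCo0_smul, v1_coe]
  funext p
  obtain ⟨q, rfl⟩ := (tau : Equiv.Perm GolayPt).surjective p
  have h : ∀ q : GolayPt, vec (Cfsg.Agent.LThreeCo1Twelve.Data.vl (2, 2, 0, 0)) q =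
      vec (Cfsg.Agent.LThreeCo1Twelve.Data.vl (2, 2, 0, 0)) (pt (papp pk (idx q))) := by
    decide +kernel
  rw [permMap_apply, Equiv.symm_apply_apply, tau_apply]
  exact h q

/-- The involution. -/
noncomputable def t : Gw := ⟨permCo0 tau, tau_v1⟩

theorem t_x : t * x * t⁻¹ = x⁻¹ := by
  apply Subtype.ext
  show permCo0 tau * permCo0 sM * (permCo0 tau)⁻¹ = (permCo0 sM)⁻¹
  rw [← map_mul, ← map_inv, ← map_mul, tau_sM, map_inv]

theorem conj_x {n : Gw} (hn : n ∈ NN) : n * x * n⁻¹ = x ∨ n * x * n⁻¹ = x⁻¹ := by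
  have h1 : n * x * n⁻¹ ∈ Subgroup.zpowers x :=
    (Subgroup.mem_normalizer_iff.1 hn x).1 (Subgroup.mem_zpowers x)
  have hx3 : x ^ 3 = 1 := by rw [← orderOf_x, pow_orderOf_eq_one]
  classical
  rw [mem_zpowers_iff_mem_range_orderOf, orderOf_x] at h1
  obtain ⟨m, hm, h1⟩ := Finset.mem_image.1 h1
  rw [Finset.mem_range] at hm
  interval_cases m
  · exfalso
    have h3 : x = 1 := by
      have h4 : n * x * n⁻¹ = 1 := by rw [← h1, pow_zero]
      have h5 : x = n⁻¹ * (n * x * n⁻¹) * n := by group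
      rw [h5, h4]
      group
    have h4 := orderOf_x
    rw [h3, orderOf_one] at h4
    norm_num at h4
  · left
    rw [← h1, pow_one]
  · right
    rw [← h1, eq_inv_iff_mul_eq_one, ← pow_succ, hx3]

/-! ### The model -/

theorem nonempty_equiv : Nonempty (Spor.Co2 ≃* Gw) := by
  obtain ⟨g, hg⟩ := Cfsg.Agent.CpAutBig.CoZero.exists_smul_eq (n := 32) (Or.inl rfl) v1 Spor.leechU
    norm1 (by unfold sqNorm; decide)
  have hg' : g⁻¹ • Spor.leechU = v1 := by rw [← hg, inv_smul_smul]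
  refine ⟨{ toFun := fun h => ⟨g⁻¹ * ⟨h.1, h.2.1⟩ * g, ?_⟩
            invFun := fun k => ⟨(g * k.1 * g⁻¹ : Co0).1, (g * k.1 * g⁻¹ : Co0).2, ?_⟩
            left_inv := ?_
            right_inv := ?_
            map_mul' := ?_ }⟩
  · rw [MulAction.mem_stabilizer_iff, mul_smul, mul_smul, hg]
    have h2 : (⟨h.1, h.2.1⟩ : Co0) • Spor.leechU = Spor.leechU := h.2.2
    rw [h2, hg']
  · show (g * k.1 * g⁻¹) • Spor.leechU = Spor.leechU
    have h2 : k.1 • v1 = v1 := k.2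
    rw [mul_smul, mul_smul, hg', h2, hg]
  · intro h
    apply Subtype.ext
    show ((g * (g⁻¹ * ⟨h.1, h.2.1⟩ * g) * g⁻¹ : Co0)).1 = h.1
    have h2 : g * (g⁻¹ * (⟨h.1, h.2.1⟩ : Co0) * g) * g⁻¹ = ⟨h.1, h.2.1⟩ := by group
    rw [h2]
  · intro k
    apply Subtype.ext
    show g⁻¹ * (g * k.1 * g⁻¹) * g = k.1
    group
  · intro h k
    apply Subtype.ext
    show g⁻¹ * ((⟨h.1, h.2.1⟩ : Co0) * ⟨k.1, k.2.1⟩) * g = g⁻¹ * ⟨h.1, h.2.1⟩ * g * (g⁻¹ * ⟨k.1, k.2.1⟩ * g)
    group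

theorem card_Gw : Nat.card Gw = 42305421312000 := by
  obtain ⟨f⟩ := nonempty_equiv
  rw [← Nat.card_congr f.toEquiv, Co2A.card_co2]

theorem isRat (χ : IrrCharacter Gw) : ∃ m : ℤ, (χ : Gw → ℂ) x = m := by
  have : Finite Gw := Nat.finite_of_card_ne_zero (by rw [card_Gw]; norm_num)
  have hχ := Cfsg.Agent.Characters.Core.isIrr_isCharacter χ.2
  apply Cfsg.Agent.Characters.GaloisBasic.exists_int_of_rat hχ
  rw [Cfsg.Agent.Characters.GaloisBasic.exists_rat_iff hχ]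
  intro m hm
  have hinv : (χ : Gw → ℂ) x⁻¹ = (χ : Gw → ℂ) x := by
    rw [← t_x, Cfsg.Agent.Blocks.Basic.irr_conj χ.2]
  have h3 : ¬ 3 ∣ m := by
    intro h
    have h1 : 3 ∣ Nat.gcd m (Nat.card Gw) := Nat.dvd_gcd h (by rw [card_Gw]; norm_num)
    rw [hm] at h1
    norm_num at h1
  have h4 : x ^ m = x ^ (m % 3) := by
    conv_lhs => rw [← Nat.mod_add_div m 3, pow_add, pow_mul, ← orderOf_x, pow_orderOf_eq_one, one_pow, mul_one]
    rw [orderOf_x]
  have h5 : m % 3 = 1 ∨ m % 3 = 2 := by omega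
  rcases h5 with h5 | h5
  · rw [h4, h5, pow_one]
  · have h6 : x ^ 2 = x⁻¹ := by
      rw [eq_inv_iff_mul_eq_one, ← pow_succ, show 2 + 1 = orderOf x from orderOf_x.symm, pow_orderOf_eq_one]
    rw [h4, h5, h6, hinv]

/-- **A degree divisible by 6.** -/
theorem exists_six_Gw : ∃ χ : IrrCharacter Gw, 6 ∣ charDegree (χ : Gw → ℂ) := by
  have hp : Fact (Nat.Prime 3) := ⟨Nat.prime_three⟩
  have : Finite Gw := Nat.finite_of_card_ne_zero (by rw [card_Gw]; norm_num)
  obtain ⟨-, θ, hθ, hv⟩ := exists_theta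
  have hcard : Nat.card ↥(Subgroup.zpowers x) = 3 := by rw [Nat.card_zpowers, orderOf_x]
  have hker : ∀ y : ↥KK, (y : Gw) ∈ Subgroup.zpowers x → (θ : ↥KK → ℂ) y = (θ : ↥KK → ℂ) 1 := by
    intro y hy
    rw [hv, hv, rhoK_x hy, map_one]
  have hdeg : (Nat.card ↥KK).factorization 3 ≤ (charDegree (θ : ↥KK → ℂ)).factorization 3 + 1 := by
    have h2 : (charDegree (θ : ↥KK → ℂ)).factorization 3 = 4 := by
      rw [hθ, show (81 : ℕ) = 3 ^ 4 by norm_num, Nat.prime_three.factorization_pow]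
      simp
    rw [h2]
    exact card_KK
  have hconj : ∀ n ∈ NN, ∀ c c' : ↥KK, (c' : Gw) = n * (c : Gw) * n⁻¹ → (θ : ↥KK → ℂ) c' = (θ : ↥KK → ℂ) c := by
    intro n hn c c' h
    rw [hv, hv]
    have h1 : incl c' = ⟨n, hn⟩ * incl c * (⟨n, hn⟩ : ↥NN)⁻¹ := Subtype.ext h
    have h2 : rhoK c' = rho ⟨n, hn⟩ * rhoK c * (rho ⟨n, hn⟩)⁻¹ := by
      show rho (incl c') = _ * rho (incl c) * _
      rw [h1, map_mul, map_mul, map_inv]
    rw [h2, Representation.char_conj]
  have hst : ∀ g : Gw, g ∈ NN → (∃ k : ℕ, orderOf g = 3 ^ k) → g ∈ KK := by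
    rintro g hg ⟨k, hk⟩
    rw [KK_eq, Subgroup.mem_centralizer_singleton_iff]
    rcases conj_x hg with h2 | h2
    · calc g * x = g * x * g⁻¹ * g := by group
        _ = x * g := by rw [h2]
    · have h3 : g ^ 2 * x = x * g ^ 2 := by
        have h4 : g * x⁻¹ * g⁻¹ = x := by
          calc g * x⁻¹ * g⁻¹ = (g * x * g⁻¹)⁻¹ := by group
            _ = x := by rw [h2, inv_inv]
        have h5 : g ^ 2 * x * (g ^ 2)⁻¹ = x := by
          calc g ^ 2 * x * (g ^ 2)⁻¹ = g * (g * x * g⁻¹) * g⁻¹ := by rw [pow_two]; group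
            _ = x := by rw [h2, h4]
        calc g ^ 2 * x = g ^ 2 * x * (g ^ 2)⁻¹ * g ^ 2 := by group
          _ = x * g ^ 2 := by rw [h5]
      have hodd : Odd (3 ^ k) := Odd.pow (by decide)
      obtain ⟨m, hm⟩ := hodd
      have h4 : g = (g ^ 2) ^ (m + 1) := by
        rw [← pow_mul, show 2 * (m + 1) = (2 * m + 1) + 1 by ring, ← hm, pow_succ, ← hk, pow_orderOf_eq_one, one_mul]
      have h5 : Commute ((g ^ 2) ^ (m + 1)) x := Commute.pow_left h3 _
      rw [← h4] at h5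
      exact h5
  obtain ⟨χ, h2, h3⟩ := EvenBlock.exists_even_of_local (p := 3) (by norm_num) orderOf_x (Subgroup.zpowers x) rfl θ
    (by rw [hθ]; norm_num) hker hdeg hconj hst isRat
  refine ⟨χ, ?_⟩
  have h4 := Subgroup.card_mul_index (Subgroup.zpowers x)
  rw [hcard, card_Gw] at h4
  have h5 : (Subgroup.zpowers x).index = 14101807104000 := by omega
  have h6 : 1 ≤ (Subgroup.zpowers x).index.factorization 3 := by
    rw [h5]
    exact Nat.prime_three.factorization_pos_of_dvd (by norm_num) (by norm_num)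
  have h7 : 3 ∣ charDegree (χ : Gw → ℂ) :=
    (Nat.prime_three.dvd_iff_one_le_factorization
      (Cfsg.Agent.Blocks.Basic.charDegree_pos χ.2).ne').2 (h6.trans h3)
  exact Nat.Coprime.mul_dvd_of_dvd_of_dvd (by norm_num : Nat.Coprime 2 3) h2 h7

/-- **A degree of `Co2` divisible by 6.** -/
theorem hasDvd_six : ∃ χ : IrrCharacter Spor.Co2, 6 ∣ charDegree (χ : Spor.Co2 → ℂ) := by
  obtain ⟨f⟩ := nonempty_equiv
  exact IM.of_equiv f exists_six_Gw

end Cfsg.Agent.H843.IMC.Co2C
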