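import Cfsg.Agent.H843.IMC.LamCo1
import Cfsg.Agent.H843.IMC.LamCo2

/-!
# All constituents of the exterior powers (helper843)

* `all_lam` : the version of `IM_lam` for all constituents;
* `hasDvd_co1` : `Co1` has an irreducible character of degree divisible by `7 * 11 * 23`.
-/

set_option autoImplicit false
set_option linter.unusedSectionVars false

namespace Cfsg.Agent.H843.IMC.LamAll

open Cfsg Cfsg.Agent.H33 Cfsg.Agent.H843.IMC.Syn Cfsg.Agent.H843.IMC.Lam
open Cfsg.Agent.SporadicA.GolayBase Cfsg.Agent.SporadicStructure.M24El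
open Cfsg.Agent.Characters.Core

variable {G : Type*} [Group G] [Fintype G] {E : Type*} [Group E] [Fintype E]

theorem all_of_free (p : ℕ) [Fact p.Prime] (f : E →* G) (x : G) (σ : E ≃* E) (hσ : ∀ e, f (σ e) = x * f e * x⁻¹)
    (hσp : ∀ e, (σ : E → E)^[p] e = e) {W : G → ℂ} (hW : IsCharacter G W) {J : Type*} [Fintype J]
    (c : J → ℂ) (lam : J → E → ℂ) (hlam : ∀ j, IsIrrCharacter E (lam j)) (hWf : W ∘ f = ∑ j, c j • lam j)
    (hfree : ∀ j, c j ≠ 0 → lam j ∘ σ ≠ lam j) (ψ : IrrCharacter G) (hψ : classInner W ψ ≠ 0) :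
    p ∣ charDegree (ψ : G → ℂ) := by
  classical
  refine dvd_of_free p f x σ hσ hσp hW ?_ ψ hψ
  intro η hη h0
  have h1 : ∃ j, c j ≠ 0 ∧ lam j = η := by
    by_contra hcon
    push Not at hcon
    apply h0
    rw [hWf, classInner_sum_left, Finset.sum_eq_zero]
    intro j _
    rw [classInner_smul_left]
    by_cases hc : c j = 0
    · rw [hc, zero_mul]
    · rw [classInner_irr_ne (hlam j) hη (hcon j hc), mul_zero]
  obtain ⟨j, hj, rfl⟩ := h1
  exact hfree j hj

/-- **Exterior powers**, all constituents. -/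
theorem all_lam {p k : ℕ} [Fact p.Prime] (w : E →* Multiplicative (GolayPt → ZMod 2))
    (hw : Function.Injective w) (f : E →* G) {P : ℕ} (hP : ok P = true) (hPp : el P ^ p = 1) (σ : E ≃* E)
    (hσ : ∀ e i, (w (σ e)).toAdd (el P • i) = (w e).toAdd i) (x : G) (hx : ∀ e, f (σ e) = x * f e * x⁻¹)
    {W : G → ℂ} (hW : IsCharacter G W)
    (hWf : ∀ e, W (f e) = altk k (Matrix.diagonal fun i => sgnC ((w e).toAdd i)))
    {bs : List ℕ} (hbs : ∀ m ∈ bs, ∃ e, (w e).toAdd = word m)
    (hchk : chk k 0 ((List.range 24).map (syn P bs)) = true) (ψ : IrrCharacter G) (hψ : classInner W ψ ≠ 0) :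
    p ∣ charDegree (ψ : G → ℂ) := by
  classical
  have hiter : ∀ (n : ℕ) (e : E) (i : GolayPt), (w ((σ : E → E)^[n] e)).toAdd ((el P) ^ n • i) = (w e).toAdd i := by
    intro n
    induction n with
    | zero => intro e i; rw [pow_zero, one_smul]; rfl
    | succ n ih =>
      intro e i
      rw [Function.iterate_succ_apply', pow_succ', mul_smul, hσ]
      exact ih e i
  refine all_of_free p f x σ hx ?_ hW
    (fun j : Fin k → GolayPt => ((k.factorial : ℂ))⁻¹ * (if Function.Injective j then (1 : ℂ) else 0))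
    (fun j e => ((lamH w j e : ℂˣ) : ℂ)) (fun j => Cfsg.Agent.CharDeep.LinearChar.isIrrCharacter_of_hom (lamH w j)) ?_ ?_
    ψ hψ
  · intro e
    apply hw
    apply Multiplicative.toAdd.injective
    funext i
    have h := hiter p e i
    rwa [hPp, one_smul] at h
  · funext e
    rw [Function.comp_apply, hWf, altk_diagonal, Finset.sum_apply, Finset.mul_sum]
    refine Finset.sum_congr rfl fun j _ => ?_
    rw [Pi.smul_apply, smul_eq_mul, mul_assoc, lamH_apply, sgnC_sum]
  · intro j hj hcon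
    have hj' : Function.Injective j := by
      by_contra h
      rw [if_neg h, mul_zero] at hj
      exact hj rfl
    have hinj : Function.Injective fun t => (el P)⁻¹ • j t := fun s t h => hj' (MulAction.injective _ h)
    obtain ⟨m, hm, hne⟩ := exists_moved hP hchk hinj
    obtain ⟨e, he⟩ := hbs m hm
    have h1 := congrFun hcon e
    simp only [Function.comp_apply] at h1
    rw [lamH_apply, lamH_apply] at h1
    have h2 := sgnC_injective h1
    apply hne
    simp only [smul_inv_smul]
    rw [← he, ← h2]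
    refine Finset.sum_congr rfl fun t _ => ?_
    rw [← hσ e, smul_inv_smul]

section co1

open Cfsg.Spor Cfsg.Agent.H843.IMC.LamCo1 Cfsg.Agent.SporadicA.Co0Mono Cfsg.Agent.CoOneType.ClosingFacts
open Cfsg.Agent.H419.LeechIrr Cfsg.Agent.SporadicStructure.Co0Base Cfsg.Agent.CoOneType.SignFacts
open Cfsg.Agent.SporadicA.Co1Simple

theorem all_co1 {p k : ℕ} [Fact p.Prime] (hk2 : Even k) {P : ℕ} (hP : ok P = true)
    (hPp : el P ^ p = 1) (hchk : chk k 0 ((List.range 24).map (syn P ((List.range 12).map basisMask))) = true)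
    [Fintype Co1] (ψ : IrrCharacter Co1) (hψ : classInner (W k) ψ ≠ 0) : p ∣ charDegree (ψ : Co1 → ℂ) := by
  classical
  have := Fintype.ofFinite (Multiplicative golayCode)
  refine all_lam (E := Multiplicative golayCode) wd ?_ sg hP hPp (wp (el P)) ?_ (mk (permCo0 (el P))) ?_
    (isCharacter_W hk2) ?_ (bs := (List.range 12).map basisMask) ?_ hchk ψ hψ
  · intro a b h
    exact Subtype.ext h
  · intro e i
    show ((e.toAdd : golayCode) : GolayPt → ZMod 2) (((el P : M24) : Equiv.Perm GolayPt).symm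
      (((el P : M24) : Equiv.Perm GolayPt) i)) = _
    rw [Equiv.symm_apply_apply]
    rfl
  · intro e
    show mk (signCo0 (wordPerm (el P) e.toAdd)) = mk (permCo0 (el P)) * mk (signCo0 e.toAdd) * (mk (permCo0 (el P)))⁻¹
    rw [← perm_mul_sign_mul_inv, mk_mul, mk_mul, mk_inv]
  · intro e
    show W k (mk (signCo0 e.toAdd)) = _
    rw [W_mk hk2, matC_sign]
    rfl
  · intro m hm
    obtain ⟨i, hi, rfl⟩ := List.mem_map.1 hm
    rw [List.mem_range] at hi
    obtain ⟨h0, h1, h2, h3, h4, h5, h6, h7, h8, h9, h10, h11⟩ := basis_mem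
    have h : word (basisMask i) ∈ golayCode := by
      interval_cases i
      · exact h0
      · exact h1
      · exact h2
      · exact h3
      · exact h4
      · exact h5
      · exact h6
      · exact h7
      · exact h8
      · exact h9
      · exact h10
      · exact h11
    exact ⟨Multiplicative.ofAdd ⟨_, h⟩, rfl⟩

theorem W_one (k : ℕ) (hk2 : Even k) : W k 1 = ((k.factorial : ℂ))⁻¹ *
    ∑ i : Fin k → GolayPt, (if Function.Injective i then (1 : ℂ) else 0) := by
  have h1 : (1 : Co1) = mk (signCo0 0) := by rw [signCo0_zero]; rfl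
  rw [h1, W_mk hk2, matC_sign, altk_diagonal]
  congr 1
  refine Finset.sum_congr rfl fun i _ => ?_
  rw [Finset.prod_eq_one, mul_one]
  intro t _
  exact sgnC_zero

/-- **`Co1` has an irreducible character of degree divisible by `1771 = 7 * 11 * 23`.** -/
theorem hasDvd_co1 : ∃ ψ : IrrCharacter Co1, 1771 ∣ charDegree (ψ : Co1 → ℂ) := by
  classical
  have := Fintype.ofFinite Co1
  have h4 : Even 4 := by decide
  have hW0 : W 4 ≠ 0 := by
    intro h0
    have hW1 := W_one 4 h4
    rw [h0, Pi.zero_apply] at hW1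
    have h1 : ((Nat.factorial 4 : ℂ))⁻¹ ≠ 0 := inv_ne_zero (by exact_mod_cast (Nat.factorial_ne_zero 4))
    have h2 := (mul_eq_zero.1 hW1.symm).resolve_left h1
    rw [Finset.sum_boole] at h2
    have h3 : (Finset.univ.filter fun i : Fin 4 → GolayPt => Function.Injective i).card = 0 := by exact_mod_cast h2
    rw [Finset.card_eq_zero, Finset.filter_eq_empty_iff] at h3
    have h5 : Fintype.card (Fin 4) ≤ Fintype.card GolayPt := by
      rw [Fintype.card_fin]
      decide
    obtain ⟨e⟩ := Function.Embedding.nonempty_of_card_le h5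
    exact h3 (Finset.mem_univ (e : Fin 4 → GolayPt)) e.injective
  obtain ⟨ψ, hψ⟩ := exists_constituent (isCharacter_W h4) hW0
  refine ⟨ψ, ?_⟩
  have h7 : 7 ∣ charDegree (ψ : Co1 → ℂ) :=
    have : Fact (Nat.Prime 7) := ⟨by norm_num⟩
    all_co1 h4 ok7 (el_pow_eq_one ok7 pow7) chk7 ψ hψ
  have h11 : 11 ∣ charDegree (ψ : Co1 → ℂ) :=
    have : Fact (Nat.Prime 11) := ⟨by norm_num⟩
    all_co1 h4 ok11 (el_pow_eq_one ok11 pow11) chk11 ψ hψ
  have h23 : 23 ∣ charDegree (ψ : Co1 → ℂ) :=
    have : Fact (Nat.Prime 23) := ⟨by norm_num⟩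
    all_co1 h4 ok23 (el_pow_eq_one ok23 pow23) chk23 ψ hψ
  have h77 : 7 * 11 ∣ charDegree (ψ : Co1 → ℂ) := Nat.Coprime.mul_dvd_of_dvd_of_dvd (by norm_num) h7 h11
  exact Nat.Coprime.mul_dvd_of_dvd_of_dvd (m := 7 * 11) (n := 23) (by norm_num) h77 h23

end co1

end Cfsg.Agent.H843.IMC.LamAll
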