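import Cfsg.Agent.H843.IMC.Free
import Cfsg.Agent.PermChar.SymAlt

/-!
# The character of the `k`-th exterior power of a matrix representation (helper843)
-/

set_option autoImplicit false
set_option linter.unusedSectionVars false

namespace Cfsg.Agent.H843.IMC

open Cfsg Cfsg.Agent.Characters.Core
open scoped BigOperators

section

variable {G : Type*} [Group G] {V : Type*} [AddCommGroup V] [Module ℂ V] [FiniteDimensional ℂ V]

/-- The character on the image of a projection. -/
theorem isCharacter_trace_proj (ρ : Representation ℂ G V) (P : Module.End ℂ V) (hP : P * P = P)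
    (hc : ∀ g, P * ρ g = ρ g * P) : IsCharacter G (fun g => LinearMap.trace ℂ V (ρ g * P)) := by
  let W : Submodule ℂ V := LinearMap.range P
  have hW : ∀ w ∈ W, P w = w := by
    rintro w ⟨x, rfl⟩
    rw [← Module.End.mul_apply, hP]
  have hg : ∀ (g : G) (w : V), w ∈ W → ρ g w ∈ W := by
    rintro g w ⟨x, rfl⟩
    refine ⟨ρ g x, ?_⟩
    rw [← Module.End.mul_apply, hc, Module.End.mul_apply]
  let σ : Representation ℂ G W :=
    { toFun := fun g => (ρ g).restrict (hg g)
      map_one' := by
        apply LinearMap.ext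
        intro w
        apply Subtype.ext
        show ρ 1 (w : V) = w
        rw [map_one]
        rfl
      map_mul' := fun g h => by
        apply LinearMap.ext
        intro w
        apply Subtype.ext
        show ρ (g * h) (w : V) = ρ g (ρ h w)
        rw [map_mul]
        rfl }
  have hσ : σ.character = fun g => LinearMap.trace ℂ V (ρ g * P) := by
    funext g
    have h1 : ∀ v, (ρ g * P) v ∈ W := fun v => by
      rw [← hc]
      exact ⟨ρ g v, rfl⟩
    rw [← PermChar.SymAlt.trace_restrict (ρ g * P) W h1]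
    show LinearMap.trace ℂ W ((ρ g).restrict (hg g)) = _
    congr 1
    apply LinearMap.ext
    intro w
    apply Subtype.ext
    show ρ g (w : V) = ρ g (P w)
    rw [hW w w.2]
  rw [← hσ]
  exact isCharacter_of_rep σ

end

variable {I : Type*} [Fintype I] [DecidableEq I] (k : ℕ)

/-- The `k`-th tensor power of a matrix. -/
def tpow (A : Matrix I I ℂ) : Matrix (Fin k → I) (Fin k → I) ℂ := fun i j => ∏ t, A (i t) (j t)

theorem tpow_apply (A : Matrix I I ℂ) (i j : Fin k → I) : tpow k A i j = ∏ t, A (i t) (j t) := rfl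

theorem tpow_one : tpow k (1 : Matrix I I ℂ) = 1 := by
  ext i j
  rw [tpow_apply]
  by_cases h : i = j
  · rw [h, Matrix.one_apply_eq]
    exact Finset.prod_eq_one fun t _ => Matrix.one_apply_eq _
  · rw [Matrix.one_apply_ne h]
    obtain ⟨t, ht⟩ := Function.ne_iff.1 h
    exact Finset.prod_eq_zero (Finset.mem_univ t) (Matrix.one_apply_ne ht)

theorem tpow_mul (A B : Matrix I I ℂ) : tpow k (A * B) = tpow k A * tpow k B := by
  ext i j
  rw [tpow_apply, Matrix.mul_apply, Finset.prod_congr rfl (fun t _ => Matrix.mul_apply (M := A) (N := B)),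
    Finset.prod_univ_sum, Fintype.piFinset_univ]
  refine Finset.sum_congr rfl fun l _ => ?_
  rw [Finset.prod_mul_distrib, tpow_apply, tpow_apply]

/-- The permutation of the factors. -/
def pm (σ : Equiv.Perm (Fin k)) : Matrix (Fin k → I) (Fin k → I) ℂ := fun i j => if j = i ∘ σ then 1 else 0

theorem pm_self (σ : Equiv.Perm (Fin k)) (i : Fin k → I) : (pm k σ : Matrix (Fin k → I) (Fin k → I) ℂ) i (i ∘ σ) = 1 :=
  if_pos rfl

theorem pm_ne (σ : Equiv.Perm (Fin k)) {i j : Fin k → I} (h : j ≠ i ∘ σ) :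
    (pm k σ : Matrix (Fin k → I) (Fin k → I) ℂ) i j = 0 := if_neg h

theorem pm_mul (σ τ : Equiv.Perm (Fin k)) : (pm k σ : Matrix (Fin k → I) (Fin k → I) ℂ) * pm k τ = pm k (σ * τ) := by
  ext i j
  rw [Matrix.mul_apply, Finset.sum_eq_single (i ∘ σ)]
  · rw [pm_self, one_mul]
    rfl
  · intro l _ hl
    rw [pm_ne k σ hl, zero_mul]
  · intro h
    exact absurd (Finset.mem_univ _) h

theorem pm_tpow (σ : Equiv.Perm (Fin k)) (A : Matrix I I ℂ) : pm k σ * tpow k A = tpow k A * pm k σ := by
  ext i j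
  rw [Matrix.mul_apply, Matrix.mul_apply, Finset.sum_eq_single (i ∘ σ), Finset.sum_eq_single (j ∘ σ.symm)]
  · have h : j = (j ∘ σ.symm) ∘ σ := by
      funext t
      simp
    have h1 : (pm k σ : Matrix (Fin k → I) (Fin k → I) ℂ) (j ∘ σ.symm) j = 1 := by
      conv_lhs => rw [h]
      convert pm_self k σ (j ∘ σ.symm) using 2
      funext t
      simp
    rw [pm_self, h1, one_mul, mul_one, tpow_apply, tpow_apply]
    rw [← Equiv.prod_comp σ (fun t => A (i t) ((j ∘ σ.symm) t))]
    refine Finset.prod_congr rfl fun t _ => ?_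
    simp
  · intro l _ hl
    rw [pm_ne k σ, mul_zero]
    intro h
    apply hl
    rw [h]
    funext t
    simp
  · intro h
    exact absurd (Finset.mem_univ _) h
  · intro l _ hl
    rw [pm_ne k σ hl, zero_mul]
  · intro h
    exact absurd (Finset.mem_univ _) h

/-- The projection on the alternating tensors. -/
noncomputable def ap : Matrix (Fin k → I) (Fin k → I) ℂ :=
  ((k.factorial : ℂ))⁻¹ • ∑ σ : Equiv.Perm (Fin k), ((Equiv.Perm.sign σ : ℤ) : ℂ) • pm k σ

theorem ap_mul_ap : (ap k : Matrix (Fin k → I) (Fin k → I) ℂ) * ap k = ap k := by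
  have h1 : (∑ σ : Equiv.Perm (Fin k), ((Equiv.Perm.sign σ : ℤ) : ℂ) • (pm k σ : Matrix (Fin k → I) (Fin k → I) ℂ)) *
      (∑ σ : Equiv.Perm (Fin k), ((Equiv.Perm.sign σ : ℤ) : ℂ) • pm k σ) =
      (k.factorial : ℂ) • ∑ σ : Equiv.Perm (Fin k), ((Equiv.Perm.sign σ : ℤ) : ℂ) • pm k σ := by
    rw [Finset.sum_mul]
    have h2 : ∀ σ : Equiv.Perm (Fin k), ((Equiv.Perm.sign σ : ℤ) : ℂ) • (pm k σ : Matrix (Fin k → I) (Fin k → I) ℂ) *
        (∑ τ : Equiv.Perm (Fin k), ((Equiv.Perm.sign τ : ℤ) : ℂ) • pm k τ) =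
        ∑ τ : Equiv.Perm (Fin k), ((Equiv.Perm.sign τ : ℤ) : ℂ) • pm k τ := by
      intro σ
      rw [Finset.mul_sum, ← Equiv.sum_comp (Equiv.mulLeft σ) (fun τ => ((Equiv.Perm.sign τ : ℤ) : ℂ) • pm k τ)]
      refine Finset.sum_congr rfl fun τ _ => ?_
      rw [smul_mul_smul_comm, pm_mul]
      simp only [Equiv.coe_mulLeft, Equiv.Perm.sign_mul, Units.val_mul, Int.cast_mul]
    rw [Finset.sum_congr rfl fun σ _ => h2 σ, Finset.sum_const, Finset.card_univ, Fintype.card_perm, Fintype.card_fin]
    rw [← Nat.cast_smul_eq_nsmul ℂ]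
  have h3 : ((k.factorial : ℂ)) ≠ 0 := by exact_mod_cast k.factorial_ne_zero
  unfold ap
  rw [smul_mul_smul_comm, h1, smul_smul, mul_assoc, inv_mul_cancel₀ h3, mul_one]

theorem ap_tpow (A : Matrix I I ℂ) : ap k * tpow k A = tpow k A * ap k := by
  unfold ap
  rw [smul_mul_assoc, mul_smul_comm, Finset.sum_mul, Finset.mul_sum]
  congr 1
  refine Finset.sum_congr rfl fun σ _ => ?_
  rw [smul_mul_assoc, mul_smul_comm, pm_tpow]

/-- The trace of the `k`-th exterior power. -/
noncomputable def altk (A : Matrix I I ℂ) : ℂ := Matrix.trace (tpow k A * ap k)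

theorem altk_eq (A : Matrix I I ℂ) : altk k A = ((k.factorial : ℂ))⁻¹ *
    ∑ i : Fin k → I, ∑ σ : Equiv.Perm (Fin k), ((Equiv.Perm.sign σ : ℤ) : ℂ) * ∏ t, A (i (σ t)) (i t) := by
  unfold altk ap
  rw [mul_smul_comm, Matrix.trace_smul, smul_eq_mul, Finset.mul_sum, Matrix.trace_sum, Finset.sum_comm]
  congr 1
  refine Finset.sum_congr rfl fun σ _ => ?_
  rw [mul_smul_comm, Matrix.trace_smul, smul_eq_mul, ← Finset.mul_sum]
  congr 1
  rw [Matrix.trace_mul_comm, Matrix.trace]
  refine Finset.sum_congr rfl fun i _ => ?_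
  rw [Matrix.diag_apply, Matrix.mul_apply, Finset.sum_eq_single (i ∘ σ)]
  · rw [pm_self, one_mul, tpow_apply]
    rfl
  · intro l _ hl
    rw [pm_ne k σ hl, zero_mul]
  · intro h
    exact absurd (Finset.mem_univ _) h

/-- The value at a diagonal matrix. -/
theorem altk_diagonal (d : I → ℂ) : altk k (Matrix.diagonal d) = ((k.factorial : ℂ))⁻¹ *
    ∑ i : Fin k → I, (if Function.Injective i then (1 : ℂ) else 0) * ∏ t, d (i t) := by
  rw [altk_eq]
  congr 1
  refine Finset.sum_congr rfl fun i _ => ?_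
  have h1 : ∀ σ : Equiv.Perm (Fin k), ∏ t, Matrix.diagonal d (i (σ t)) (i t) =
      if i ∘ σ = i then ∏ t, d (i t) else 0 := by
    intro σ
    by_cases h : i ∘ σ = i
    · rw [if_pos h]
      refine Finset.prod_congr rfl fun t _ => ?_
      have h2 : i (σ t) = i t := congrFun h t
      rw [h2, Matrix.diagonal_apply_eq]
    · rw [if_neg h]
      obtain ⟨t, ht⟩ := Function.ne_iff.1 h
      exact Finset.prod_eq_zero (Finset.mem_univ t) (Matrix.diagonal_apply_ne _ ht)
  simp only [h1]
  by_cases hi : Function.Injective i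
  · rw [if_pos hi, one_mul, Finset.sum_eq_single 1]
    · simp
    · intro σ _ hσ
      rw [if_neg, mul_zero]
      intro h
      apply hσ
      ext t
      have h2 : i (σ t) = i t := congrFun h t
      rw [hi h2]
      rfl
    · intro h
      exact absurd (Finset.mem_univ _) h
  · rw [if_neg hi, zero_mul]
    -- a transposition in the stabiliser
    have hi' := hi
    unfold Function.Injective at hi'
    push Not at hi'
    obtain ⟨a, b, hab, hne⟩ := hi'
    let τ := Equiv.swap a b
    have hτ : i ∘ τ = i := by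
      funext t
      show i (Equiv.swap a b t) = i t
      rcases Equiv.swap_apply_eq_iff.1 (rfl : Equiv.swap a b t = Equiv.swap a b t) with h
      by_cases h1 : t = a
      · rw [h1, Equiv.swap_apply_left, hab]
      · by_cases h2 : t = b
        · rw [h2, Equiv.swap_apply_right, hab]
        · rw [Equiv.swap_apply_of_ne_of_ne h1 h2]
    have h2 : ∑ σ : Equiv.Perm (Fin k), ((Equiv.Perm.sign σ : ℤ) : ℂ) * (if i ∘ σ = i then ∏ t, d (i t) else 0) =
        - ∑ σ : Equiv.Perm (Fin k), ((Equiv.Perm.sign σ : ℤ) : ℂ) * (if i ∘ σ = i then ∏ t, d (i t) else 0) := by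
      conv_lhs => rw [← Equiv.sum_comp (Equiv.mulLeft τ)]
      rw [← Finset.sum_neg_distrib]
      refine Finset.sum_congr rfl fun σ _ => ?_
      have h3 : i ∘ (Equiv.mulLeft τ σ) = i ∘ σ := by
        show i ∘ (τ * σ : Equiv.Perm (Fin k)) = i ∘ σ
        rw [Equiv.Perm.coe_mul, ← Function.comp_assoc, hτ]
      rw [h3]
      simp only [Equiv.coe_mulLeft, Equiv.Perm.sign_mul]
      rw [Equiv.Perm.sign_swap hne]
      push_cast
      ring
    exact self_eq_neg.1 h2

theorem isCharacter_altk {G : Type*} [Group G] (A : G →* Matrix I I ℂ) : IsCharacter G (fun g => altk k (A g)) := by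
  let ρ : Representation ℂ G ((Fin k → I) → ℂ) :=
    { toFun := fun g => Matrix.toLin' (tpow k (A g))
      map_one' := by
        rw [map_one, tpow_one, Matrix.toLin'_one]
        rfl
      map_mul' := fun g h => by
        rw [map_mul, tpow_mul, Matrix.toLin'_mul]
        rfl }
  have h := isCharacter_trace_proj ρ (Matrix.toLin' (ap k)) (by
      rw [Module.End.mul_eq_comp, ← Matrix.toLin'_mul, ap_mul_ap]) (fun g => by
      show Matrix.toLin' (ap k) * Matrix.toLin' (tpow k (A g)) = Matrix.toLin' (tpow k (A g)) * Matrix.toLin' (ap k)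
      rw [Module.End.mul_eq_comp, Module.End.mul_eq_comp, ← Matrix.toLin'_mul, ← Matrix.toLin'_mul, ap_tpow])
  have h2 : (fun g => LinearMap.trace ℂ ((Fin k → I) → ℂ) (ρ g * Matrix.toLin' (ap k))) = fun g => altk k (A g) := by
    funext g
    show LinearMap.trace ℂ _ (Matrix.toLin' (tpow k (A g)) * Matrix.toLin' (ap k)) = _
    rw [Module.End.mul_eq_comp, ← Matrix.toLin'_mul, Matrix.trace_toLin'_eq]
    rfl
  rw [← h2]
  exact h

end Cfsg.Agent.H843.IMC
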