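import Cfsg.Agent.H678.DG.Basic
import Cfsg.Agent.H843.IMC.LamAll
import Cfsg.Agent.H843.IMC.RowsA

/-!
# The degree graph of `Co1` (helper843)
-/

set_option autoImplicit false

namespace Cfsg.Agent.H843.IMC.Rows

open Cfsg Cfsg.Agent.H672.SporIM Cfsg.Agent.H678.DG

universe u

theorem im_of_hasDeg' {S : Type*} [Group S] {d : ℕ} (h : HasDeg S d) : H671.H5.IM d S := by
  obtain ⟨χ, hχ⟩ := h
  exact ⟨χ, by rw [hχ]⟩

/-- **The degree graph of `Co1`.** -/
theorem facts_co1 {S : Type u} [Group S] (h : Spor.IsoCo1 S) : Facts S := by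
  obtain ⟨e⟩ := h
  refine Facts.of_equiv e ?_
  have hc : Nat.card Spor.Co1 = 4157776806543360000 := Cfsg.Agent.S0399.result.2
  have : Finite Spor.Co1 := Nat.finite_of_card_ne_zero (by rw [hc]; norm_num)
  refine Facts.of_list (P := [7, 11, 23, 2, 3, 5, 13]) (D := [1771, 17250, 80730]) ?_ (by decide)
    (mem_of_card (f := fun _ => 21) ?_ ?_) ?_ (by decide +kernel)
  · intro p hp; fin_cases hp <;> norm_num
  · rw [hc]; decide +kernel
  · intro p hp; fin_cases hp <;> norm_num
  · intro m hm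
    simp only [List.mem_cons, List.not_mem_nil, or_false] at hm
    rcases hm with rfl | rfl | rfl
    · exact LamAll.hasDvd_co1
    · exact im_of_hasDeg' Co1D.hasDeg.1
    · exact im_of_hasDeg' Co1D.hasDeg.2

end Cfsg.Agent.H843.IMC.Rows
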