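import Cfsg.Agent.H843.IMC.Co2C
import Cfsg.Agent.H714.DG.CoTwoF

/-!
# The degree graph of `Co2` (helper843)
-/

set_option autoImplicit false

namespace Cfsg.Agent.H843.IMC.Rows

open Cfsg Cfsg.Agent.H678.DG

universe u

/-- **The degree graph of `Co2`.** -/
theorem facts_co2 {S : Type u} [Group S] (h : Spor.IsoCo2 S) : Facts S :=
  Cfsg.Agent.H714.DG.CoTwoF.facts_co2_of h Co2C.hasDvd_six

end Cfsg.Agent.H843.IMC.Rows
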