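import Cfsg.Agent.H843.IMC.Co1B
import Cfsg.Agent.H593.IMFrame
import Cfsg.Agent.S0400
import Cfsg.Agent.S1575
import Cfsg.Agent.S1576
import Cfsg.Agent.H693.Defl
import Cfsg.Agent.H713.Spor.RankThree

/-!
# `Co1`: characters of degrees `17250` and `80730` (helper843)

Frame's theorem for the action of rank 4 on the 98280 pairs of minimal vectors.
-/

set_option autoImplicit false

namespace Cfsg.Agent.H843.IMC.Co1C

open Cfsg Cfsg.Agent.H33 Cfsg.Agent.H672.SporIM Cfsg.Agent.Characters.Core MulAction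
open Cfsg.Agent.H419.LeechIrr Cfsg.Agent.SporadicStructure.Co2RankThree
open Cfsg.Agent.SporadicA.Co0Mono Cfsg.Agent.SporadicA.Co1Simple
open Cfsg.Agent.H419.Spor.Co1 (chi chi_one chi_neg psi)
open Cfsg.Agent.CoOneType.CoOneE (pr pr_surjective)
open Cfsg.Agent.H843.IMC.Co1B
open Cfsg.Agent.H593.IMFrame (Sub perm)
open scoped ComplexConjugate

/-! ### the action -/

/-- The minimal vectors. -/
abbrev M : Type := {w : leechLattice // dt w w = 32}

instance : MulAction Co0 M where
  smul g w := ⟨g • w.1, (dt_smul _ _ _).trans w.2⟩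
  one_smul w := Subtype.ext (one_smul _ w.1)
  mul_smul g h w := Subtype.ext (mul_smul g h w.1)

theorem smul_coe (g : Co0) (w : M) : ((g • w : M) : leechLattice) = g • (w : leechLattice) := rfl

theorem card_M : Nat.card M = 196560 := Cfsg.Agent.SporadicStructure.Co2RankThree.ncard_min

instance : Finite M := Nat.finite_of_card_ne_zero (by rw [card_M]; norm_num)

theorem trans_M (x y : M) : ∃ g : Co0, g • x = y := by
  obtain ⟨g, hg⟩ := Cfsg.Agent.S0400.result x.1 y.1 (by rw [norm_eq]; exact x.2) (by rw [norm_eq]; exact y.2)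
  exact ⟨g, Subtype.ext hg⟩

instance : IsPretransitive Co0 M := ⟨trans_M⟩

/-- The negative. -/
def ng (w : M) : M := ⟨-w.1, by rw [dt_neg_left, dt_neg_right, neg_neg]; exact w.2⟩

theorem ng_ng (w : M) : ng (ng w) = w := Subtype.ext (neg_neg w.1)

theorem smul_ng (g : Co0) (w : M) : g • ng w = ng (g • w) :=
  Subtype.ext (Cfsg.Agent.SporadicStructure.Co0Base.co0_smul_neg g w.1)

theorem ng_ne (w : M) : ng w ≠ w := by
  intro h
  have h1 : dt w.1 (ng w).1 = 32 := by rw [h]; exact w.2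
  have h2 : dt w.1 (ng w).1 = -32 := by
    show dt w.1 (-w.1) = _
    rw [dt_neg_right, w.2]
  omega

/-- Opposite vectors. -/
def st : Setoid M where
  r x y := y = x ∨ y = ng x
  iseqv := {
    refl := fun x => Or.inl rfl
    symm := by
      rintro x y (h | h)
      · exact Or.inl h.symm
      · right
        rw [h, ng_ng]
    trans := by
      rintro x y z (rfl | rfl) (rfl | rfl)
      · exact Or.inl rfl
      · exact Or.inr rfl
      · exact Or.inr rfl
      · left
        rw [ng_ng] }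

/-- The 98280 pairs. -/
def X : Type := Quotient st

/-- The pair of a vector. -/
def mk (x : M) : X := Quotient.mk st x

theorem mk_eq (x y : M) : mk x = mk y ↔ y = x ∨ y = ng x := Quotient.eq

theorem exists_mk (y : X) : ∃ x, mk x = y := Quotient.exists_rep y

instance act0 : MulAction Co0 X where
  smul g := Quotient.map (fun x => g • x) (by
    rintro x y (rfl | rfl)
    · exact Or.inl rfl
    · right
      exact smul_ng g x)
  one_smul y := by
    obtain ⟨x, rfl⟩ := exists_mk y
    exact congrArg _ (one_smul _ x)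
  mul_smul g h y := by
    obtain ⟨x, rfl⟩ := exists_mk y
    exact congrArg _ (mul_smul g h x)

theorem smul_mk (g : Co0) (x : M) : g • mk x = mk (g • x) := rfl

instance : Finite X := by
  have : Finite (Quotient st) := Quotient.finite _
  exact this

theorem neg_smul_M (x : M) : signCo0 allOne • x = ng x := Subtype.ext (allOne_smul x.1)

/-- The homomorphism from `Co1`. -/
def hom : Spor.Co1 →* Equiv.Perm X :=
  QuotientGroup.lift (Subgroup.center Co0) (MulAction.toPermHom Co0 X) (by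
    intro z hz
    rcases (Cfsg.Agent.CoOneType.CoOneE.mem_center_iff z).1 hz with rfl | rfl
    · exact map_one _
    · apply Equiv.ext
      intro y
      obtain ⟨x, rfl⟩ := exists_mk y
      show signCo0 allOne • mk x = mk x
      rw [smul_mk, neg_smul_M, eq_comm, mk_eq]
      exact Or.inr rfl)

instance act1 : MulAction Spor.Co1 X := MulAction.compHom X hom

theorem pr_smul (g : Co0) (x : X) : pr g • x = g • x := rfl

theorem card_X : Nat.card X = 98280 := by
  classical
  have h1 : Nat.card M = 2 * Nat.card X := by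
    have e : M ≃ Σ y : X, {x : M // mk x = y} := (Equiv.sigmaFiberEquiv (fun x : M => mk x)).symm
    have := Fintype.ofFinite M
    have := Fintype.ofFinite X
    rw [Nat.card_congr e, Nat.card_sigma, Finset.sum_congr rfl (g := fun _ => 2), Finset.sum_const, Finset.card_univ,
      smul_eq_mul, mul_comm, Nat.card_eq_fintype_card]
    intro y _
    obtain ⟨x, rfl⟩ := exists_mk y
    have h2 : {z : M | mk z = mk x} = {x, ng x} := by
      ext z
      show mk z = mk x ↔ _
      rw [eq_comm, mk_eq]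
      rfl
    have h3 : Nat.card {z : M // mk z = mk x} = ({z : M | mk z = mk x}).ncard := rfl
    rw [h3, h2, Set.ncard_pair (ng_ne x).symm]
  rw [card_M] at h1
  omega

/-- The base point. -/
def x0 : M := ⟨a0, dt_a0_a0⟩

/-- The orbits of the stabilizer. -/
theorem orbit_eq (w : M) (S : Set M) (hw : w ∈ S) (hS : ∀ g : Co0, g • x0 = x0 → ∀ v ∈ S, g • v ∈ S ∨ ng (g • v) ∈ S)
    (ht : ∀ v ∈ S, ∃ g : Co0, g • x0 = x0 ∧ (g • w = v ∨ g • w = ng v)) :
    orbit (stabilizer Spor.Co1 (mk x0)) (mk w) = mk '' S := by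
  ext y
  constructor
  · rintro ⟨⟨q, hq⟩, rfl⟩
    obtain ⟨g, rfl⟩ := pr_surjective q
    have h1 : mk (g • x0) = mk x0 := hq
    show mk (g • w) ∈ mk '' S
    rcases (mk_eq _ _).1 h1 with h2 | h2
    · rcases hS g h2.symm w hw with h3 | h3
      · exact ⟨_, h3, rfl⟩
      · exact ⟨_, h3, ((mk_eq _ _).2 (Or.inr rfl)).symm⟩
    · -- `- g`
      have h4 : (signCo0 allOne * g) • x0 = x0 := by rw [mul_smul, neg_smul_M, ← h2]
      have h5 : (signCo0 allOne * g) • w = ng (g • w) := by rw [mul_smul, neg_smul_M]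
      rcases hS _ h4 w hw with h3 | h3
      · rw [h5] at h3
        exact ⟨_, h3, ((mk_eq _ _).2 (Or.inr rfl)).symm⟩
      · rw [h5, ng_ng] at h3
        exact ⟨_, h3, rfl⟩
  · rintro ⟨v, hv, rfl⟩
    obtain ⟨g, hg, h⟩ := ht v hv
    refine ⟨⟨pr g, ?_⟩, ?_⟩
    · show mk (g • x0) = mk x0
      rw [hg]
    · show mk (g • w) = mk v
      rcases h with h | h
      · rw [h]
      · rw [h, eq_comm, mk_eq]
        exact Or.inr rfl

/-- The vectors with a given inner product. -/
def S (k : ℤ) : Set M := {v | dt a0 v.1 = k}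

theorem ncard_S {k : ℤ} {n : ℕ}
    (h : {w : GolayPt → ℤ | w ∈ leechLattice ∧ sqNorm w = 32 ∧ dotInt (a0 : GolayPt → ℤ) w = k}.ncard = n) :
    (S k).ncard = n := by
  have h1 : ({x : leechLattice | dt x x = 32 ∧ dt a0 x = k}).ncard = n := by
    rw [← h, ← ncard_coe (fun w => sqNorm w = 32 ∧ dotInt (a0 : GolayPt → ℤ) w = k)]
    simp only [norm_eq]
    rfl
  rw [← h1, ← Set.ncard_image_of_injective (S k) Subtype.val_injective]
  congr 1
  ext x
  constructor
  · rintro ⟨v, hv, rfl⟩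
    exact ⟨v.2, hv⟩
  · rintro ⟨h1, h2⟩
    exact ⟨⟨x, h1⟩, h2, rfl⟩

theorem injOn_S {k : ℤ} (hk : k ≠ 0) : Set.InjOn mk (S k) := by
  intro x hx y hy h
  rcases (mk_eq _ _).1 h with h1 | h1
  · exact h1.symm
  · exfalso
    have h2 : dt a0 y.1 = k := hy
    have h3 : dt a0 x.1 = k := hx
    rw [h1] at h2
    have h4 : dt a0 (-x.1) = k := h2
    rw [dt_neg_right, h3] at h4
    omega

theorem smul_S {k : ℤ} (g : Co0) (hg : g • x0 = x0) (v : M) (hv : v ∈ S k) : g • v ∈ S k := by
  have h1 : g • a0 = a0 := congrArg Subtype.val hg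
  show dt a0 (g • v.1) = k
  rw [dt_smul_of_fix h1]
  exact hv

theorem exists_S {k : ℤ} {n : ℕ} (hn : n ≠ 0) (h : (S k).ncard = n) : ∃ w : M, w ∈ S k :=
  Set.nonempty_of_ncard_ne_zero (by rw [h]; exact hn)

theorem nc16 : (S (-16)).ncard = 4600 :=
  ncard_S (Cfsg.Agent.S1573.result (a0 : GolayPt → ℤ) a0.2 (by rw [norm_eq]; exact dt_a0_a0)).1

theorem nc8 : (S (-8)).ncard = 47104 :=
  ncard_S (Cfsg.Agent.S1573.result (a0 : GolayPt → ℤ) a0.2 (by rw [norm_eq]; exact dt_a0_a0)).2.1

theorem nc0 : (S 0).ncard = 93150 :=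
  ncard_S (Cfsg.Agent.S1573.result (a0 : GolayPt → ℤ) a0.2 (by rw [norm_eq]; exact dt_a0_a0)).2.2

theorem exists_sub : ∃ b : Fin 4 → X, Sub Spor.Co1 X (mk x0) b ![1, 4600, 46575, 47104] := by
  obtain ⟨w1, hw1⟩ := exists_S (by norm_num) nc16
  obtain ⟨w2, hw2⟩ := exists_S (by norm_num) nc0
  obtain ⟨w3, hw3⟩ := exists_S (by norm_num) nc8
  have hx0 : sqNorm (a0 : GolayPt → ℤ) = 32 := by rw [norm_eq]; exact dt_a0_a0
  have c0 : (orbit (stabilizer Spor.Co1 (mk x0)) (mk x0)).ncard = 1 := by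
    have h1 : orbit (stabilizer Spor.Co1 (mk x0)) (mk x0) = {mk x0} := by
      ext y
      constructor
      · rintro ⟨⟨q, hq⟩, rfl⟩
        exact hq
      · rintro rfl
        exact mem_orbit_self _
    rw [h1, Set.ncard_singleton]
  have c1 : (orbit (stabilizer Spor.Co1 (mk x0)) (mk w1)).ncard = 4600 := by
    rw [orbit_eq w1 (S (-16)) hw1 (fun g hg v hv => Or.inl (smul_S g hg v hv)), (injOn_S (by norm_num)).ncard_image, nc16]
    intro v hv
    obtain ⟨g, h1, h2⟩ := Cfsg.Agent.S1574.result a0 w1.1 v.1 hx0 (by rw [norm_eq]; exact w1.2)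
      (by rw [norm_eq]; exact v.2) hw1 hv
    exact ⟨g, Subtype.ext h1, Or.inl (Subtype.ext h2)⟩
  have c3 : (orbit (stabilizer Spor.Co1 (mk x0)) (mk w3)).ncard = 47104 := by
    rw [orbit_eq w3 (S (-8)) hw3 (fun g hg v hv => Or.inl (smul_S g hg v hv)), (injOn_S (by norm_num)).ncard_image, nc8]
    intro v hv
    obtain ⟨g, h1, h2⟩ := Cfsg.Agent.S1575.result a0 w3.1 v.1 hx0 (by rw [norm_eq]; exact w3.2)
      (by rw [norm_eq]; exact v.2) hw3 hv
    exact ⟨g, Subtype.ext h1, Or.inl (Subtype.ext h2)⟩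
  have c2 : (orbit (stabilizer Spor.Co1 (mk x0)) (mk w2)).ncard = 46575 := by
    rw [orbit_eq w2 (S 0) hw2 (fun g hg v hv => Or.inl (smul_S g hg v hv))]
    · have h := Cfsg.Agent.SporadicStructure.RankThreeIndex.two_mul_ncard_image mk ng (S 0) (Set.toFinite _) ?_
        (fun w _ => ng_ne w) (fun w _ w' _ => by rw [eq_comm, mk_eq])
      · rw [nc0] at h
        omega
      · intro w hw
        show dt a0 (-w.1) = 0
        rw [dt_neg_right]
        have : dt a0 w.1 = 0 := hw
        omega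
    · intro v hv
      obtain ⟨g, h1, h2⟩ := Cfsg.Agent.S1576.result a0 w2.1 v.1 hx0 (by rw [norm_eq]; exact w2.2)
        (by rw [norm_eq]; exact v.2) hw2 hv
      refine ⟨g, Subtype.ext h1, ?_⟩
      rcases h2 with h2 | h2
      · exact Or.inl (Subtype.ext h2)
      · exact Or.inr (Subtype.ext h2)
  refine ⟨![mk x0, mk w1, mk w2, mk w3], ⟨⟨fun a b => ?_⟩, ?_, ?_, ?_⟩⟩
  · obtain ⟨x, rfl⟩ := exists_mk a
    obtain ⟨y, rfl⟩ := exists_mk b
    obtain ⟨g, h⟩ := trans_M x y
    exact ⟨pr g, by rw [pr_smul, smul_mk, h]⟩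
  · intro i
    fin_cases i
    · exact c0
    · exact c1
    · exact c2
    · exact c3
  · intro i j h
    revert h
    fin_cases i <;> fin_cases j <;> simp
  · rw [card_X]
    decide

end Cfsg.Agent.H843.IMC.Co1C
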