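import Cfsg.Agent.H843.IMC.Co2Dat
import Cfsg.Agent.H714.DG.Top

/-!
# The Steinberg character of degree 81 on the flags of the quadrangle (helper843)
-/

set_option autoImplicit false

namespace Cfsg.Agent.H843.IMC.Co2Q

open Cfsg Representation Cfsg.Agent.H843.IMC.Co2D Cfsg.Agent.H678.DG.Sph Cfsg.Agent.H714.DG.Top
open scoped ComplexConjugate

universe u

theorem rng {n : ℕ} {f : ℕ → Bool} (h : (List.range n).all f = true) {i : ℕ} (hi : i < n) : f i = true :=
  List.all_eq_true.1 h i (List.mem_range.2 hi)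

/-! ### The group of the quadrangle -/

/-- The permutations of the points preserving the adjacency. -/
def Gam : Subgroup (Equiv.Perm (Fin 40)) where
  carrier := {σ | ∀ a b : Fin 40, adj (σ a) (σ b) = adj a b}
  mul_mem' := fun hσ hτ a b => (hσ _ _).trans (hτ a b)
  one_mem' := fun _ _ => rfl
  inv_mem' := by
    intro σ hσ a b
    have h := hσ (σ⁻¹ a) (σ⁻¹ b)
    have e : ∀ a, σ (σ⁻¹ a) = a := fun a => σ.apply_symm_apply a
    rw [e, e] at h
    exact h.symm

theorem l0_lt (m : Fin 40) : L0.getD m 0 < 40 := by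
  have h := rng chkL1 m.2
  simp only [Bool.and_eq_true, Nat.blt_eq] at h
  exact h.1.2.1

theorem l1_lt (m : Fin 40) : L1.getD m 0 < 40 := by
  have h := rng chkL1 m.2
  simp only [Bool.and_eq_true, Nat.blt_eq] at h
  exact h.1.2.2

/-- First point of a line. -/
def l0 (m : Fin 40) : Fin 40 := ⟨L0.getD m 0, l0_lt m⟩

/-- Second point of a line. -/
def l1 (m : Fin 40) : Fin 40 := ⟨L1.getD m 0, l1_lt m⟩

theorem adj_l (m : Fin 40) : adj (l0 m) (l1 m) = true := by
  have h := rng chkL1 m.2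
  simp only [Bool.and_eq_true] at h
  exact h.1.1

theorem inc_iff (c m : Fin 40) : inc c m = (Nat.beq c (l0 m) || Nat.beq c (l1 m) || (adj c (l0 m) && adj c (l1 m))) := by
  have h := rng chkL1 m.2
  rw [Bool.and_eq_true] at h
  exact eq_of_beq (rng h.2 c.2)

theorem tl_spec {a b : Fin 40} (h : adj a b = true) : ∃ ht : tl a b < 40, ∀ c : Fin 40,
    inc c (⟨tl a b, ht⟩ : Fin 40) = (Nat.beq c a || Nat.beq c b || (adj c a && adj c b)) := by
  have h1 := rng (rng chkL2 a.2) b.2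
  simp only [h, Bool.not_true, Bool.false_or, Bool.and_eq_true, Nat.blt_eq] at h1
  exact ⟨h1.1, fun c => eq_of_beq (rng h1.2 c.2)⟩

theorem beq_perm (σ : Equiv.Perm (Fin 40)) (a b : Fin 40) : Nat.beq (σ a) (σ b) = Nat.beq a b := by
  rw [Bool.eq_iff_iff]
  constructor
  · intro h
    rw [σ.injective (Fin.ext (Nat.eq_of_beq_eq_true h))]
    exact Nat.beq_refl _
  · intro h
    rw [Fin.ext (Nat.eq_of_beq_eq_true h)]
    exact Nat.beq_refl _

/-- The image of a line. -/
def ln (σ : Equiv.Perm (Fin 40)) (m : Fin 40) : Fin 40 :=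
  if h : tl (σ (l0 m)) (σ (l1 m)) < 40 then ⟨_, h⟩ else 0

theorem inc_ln {σ : Equiv.Perm (Fin 40)} (hσ : σ ∈ Gam) (c m : Fin 40) : inc (σ c) (ln σ m) = inc c m := by
  obtain ⟨ht, h⟩ := tl_spec ((hσ (l0 m) (l1 m)).trans (adj_l m))
  rw [ln, dif_pos ht, h, inc_iff, beq_perm, beq_perm, hσ c (l0 m), hσ c (l1 m)]

theorem line_ext {m m' : Fin 40} (h : ∀ c : Fin 40, inc c m = true → inc c m' = true) : m = m' := by
  have h1 := rng (rng chkL3 m.2) m'.2
  have h2 : inc (l0 m) m = true := by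
    rw [inc_iff, Nat.beq_refl]
    rfl
  have h3 : inc (l1 m) m = true := by
    rw [inc_iff, Nat.beq_refl, Bool.or_true]
    rfl
  have h4 : inc (L0.getD m 0) m' = true := h _ h2
  have h5 : inc (L1.getD m 0) m' = true := h _ h3
  rw [h4, h5] at h1
  rw [Bool.or_eq_true] at h1
  rcases h1 with h1 | h1
  · exact Fin.ext (Nat.eq_of_beq_eq_true h1)
  · exact absurd h1 (by decide)

theorem ln_mul {σ τ : Equiv.Perm (Fin 40)} (hσ : σ ∈ Gam) (hτ : τ ∈ Gam) (m : Fin 40) :
    ln (σ * τ) m = ln σ (ln τ m) := by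
  apply line_ext
  intro c h
  obtain ⟨d, rfl⟩ := (σ * τ).surjective c
  rw [inc_ln (Gam.mul_mem hσ hτ)] at h
  rw [Equiv.Perm.mul_apply, inc_ln hσ, inc_ln hτ]
  exact h

theorem ln_one (m : Fin 40) : ln 1 m = m := by
  apply line_ext
  intro c h
  have h1 := inc_ln Gam.one_mem c m
  rw [Equiv.Perm.one_apply] at h1
  rw [← h1]
  exact h

/-! ### Flags -/

theorem flag_spec (i : Fin 160) : fa.getD i 0 < 40 ∧ fm.getD i 0 < 40 ∧ inc (fa.getD i 0) (fm.getD i 0) = true ∧
    fi (fa.getD i 0) (fm.getD i 0) = i := by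
  have h := rng chkF2 i.2
  simp only [Bool.and_eq_true, Nat.blt_eq] at h
  exact ⟨h.1.1.1, h.1.1.2, h.1.2, Nat.eq_of_beq_eq_true h.2⟩

/-- The point of a flag. -/
def FA (i : Fin 160) : Fin 40 := ⟨fa.getD i 0, (flag_spec i).1⟩

/-- The line of a flag. -/
def FM (i : Fin 160) : Fin 40 := ⟨fm.getD i 0, (flag_spec i).2.1⟩

theorem inc_F (i : Fin 160) : inc (FA i) (FM i) = true := (flag_spec i).2.2.1

theorem flag_ext {i j : Fin 160} (h1 : FA i = FA j) (h2 : FM i = FM j) : i = j := by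
  apply Fin.ext
  rw [← (flag_spec i).2.2.2, ← (flag_spec j).2.2.2]
  have h3 : fa.getD i 0 = fa.getD j 0 := congrArg Fin.val h1
  have h4 : fm.getD i 0 = fm.getD j 0 := congrArg Fin.val h2
  rw [h3, h4]

theorem fi_spec {a m : Fin 40} (h : inc a m = true) : ∃ ht : fi a m < 160, FA ⟨fi a m, ht⟩ = a ∧ FM ⟨fi a m, ht⟩ = m := by
  have h1 := rng (rng chkF1 a.2) m.2
  rw [h] at h1
  simp only [Bool.not_true, Bool.false_or, Bool.and_eq_true, Nat.blt_eq] at h1
  exact ⟨h1.1.1, Fin.ext (Nat.eq_of_beq_eq_true h1.1.2), Fin.ext (Nat.eq_of_beq_eq_true h1.2)⟩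

/-- The image of a flag. -/
def fl (σ : Equiv.Perm (Fin 40)) (i : Fin 160) : Fin 160 :=
  if h : fi (σ (FA i)) (ln σ (FM i)) < 160 then ⟨_, h⟩ else 0

theorem F_fl {σ : Equiv.Perm (Fin 40)} (hσ : σ ∈ Gam) (i : Fin 160) :
    FA (fl σ i) = σ (FA i) ∧ FM (fl σ i) = ln σ (FM i) := by
  obtain ⟨ht, h1, h2⟩ := fi_spec ((inc_ln hσ (FA i) (FM i)).trans (inc_F i))
  rw [fl, dif_pos ht]
  exact ⟨h1, h2⟩

instance actG : MulAction ↥Gam (Fin 160) where
  smul σ i := fl σ i
  one_smul i := by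
    show fl 1 i = i
    exact flag_ext (F_fl Gam.one_mem i).1 ((F_fl Gam.one_mem i).2.trans (ln_one _))
  mul_smul σ τ i := by
    show fl (σ * τ) i = fl σ (fl τ i)
    apply flag_ext
    · rw [(F_fl (Gam.mul_mem σ.2 τ.2) i).1, (F_fl σ.2 _).1, (F_fl τ.2 _).1]
      rfl
    · rw [(F_fl (Gam.mul_mem σ.2 τ.2) i).2, (F_fl σ.2 _).2, (F_fl τ.2 _).2, ln_mul σ.2 τ.2]

theorem FA_smul (σ : ↥Gam) (i : Fin 160) : FA (σ • i) = (σ : Equiv.Perm (Fin 40)) (FA i) := (F_fl σ.2 i).1

theorem FM_smul (σ : ↥Gam) (i : Fin 160) : FM (σ • i) = ln σ (FM i) := (F_fl σ.2 i).2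

theorem ln_inj (σ : ↥Gam) {m m' : Fin 40} (h : ln σ m = ln σ m') : m = m' := by
  have h1 : ∀ m, ln (σ⁻¹ : ↥Gam) (ln σ m) = m := by
    intro m
    rw [← ln_mul (σ⁻¹).2 σ.2, ← Subgroup.coe_mul, inv_mul_cancel]
    exact ln_one m
  rw [← h1 m, h, h1 m']

/-! ### The space of functions -/

/-- The stars. -/
noncomputable def st (t : Fin 40 ⊕ Fin 40) : Fin 160 → ℂ :=
  Sum.elim (fun a i => if FA i = a then 1 else 0) (fun m i => if FM i = m then 1 else 0) t

/-- The span of the stars. -/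
noncomputable def SS : Submodule ℂ (Fin 160 → ℂ) := Submodule.span ℂ (Set.range st)

/-- The space of functions. -/
noncomputable def V : Submodule ℂ (Fin 160 → ℂ) := perp SS

theorem V_ne : V ≠ ⊥ := by
  apply perp_ne_bot
  have h := finrank_range_le_card (R := ℂ) st
  rw [Fintype.card_sum, Fintype.card_fin] at h
  rw [Fintype.card_fin]
  exact lt_of_le_of_lt h (by norm_num)

theorem V_inv_Gam (g : ↥Gam) : ∀ φ ∈ V, (fun x => φ (g⁻¹ • x)) ∈ V := by
  refine perp_inv (fun g => span_inv ?_ g) g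
  rintro g _ ⟨t, rfl⟩
  rcases t with a | m
  · refine Submodule.subset_span ⟨Sum.inl ((g : Equiv.Perm (Fin 40)) a), ?_⟩
    funext x
    show (if FA x = (g : Equiv.Perm (Fin 40)) a then (1 : ℂ) else 0) = if FA (g⁻¹ • x) = a then 1 else 0
    have h : FA x = (g : Equiv.Perm (Fin 40)) (FA (g⁻¹ • x)) := by
      rw [← FA_smul, smul_inv_smul]
    rw [h]
    simp only [EmbeddingLike.apply_eq_iff_eq]
  · refine Submodule.subset_span ⟨Sum.inr (ln g m), ?_⟩
    funext x
    show (if FM x = ln g m then (1 : ℂ) else 0) = if FM (g⁻¹ • x) = m then 1 else 0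
    have h : FM x = ln g (FM (g⁻¹ • x)) := by
      rw [← FM_smul, smul_inv_smul]
    rw [h]
    by_cases h1 : FM (g⁻¹ • x) = m
    · rw [if_pos h1, if_pos (by rw [h1])]
    · rw [if_neg h1, if_neg fun h2 => h1 (ln_inj g h2)]

/-- Sum over a panel. -/
theorem sum_panel (φ : Fin 160 → ℂ) (P : Fin 160 → Prop) [DecidablePred P] (l : List (Fin 160)) (hl : l.Nodup)
    (h : ∀ i, P i ↔ i ∈ l) : ∑ i, φ i * (if P i then 1 else 0) = (l.map φ).sum := by
  simp only [mul_ite, mul_one, mul_zero]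
  rw [← Finset.sum_filter]
  have h1 : Finset.univ.filter P = l.toFinset := by
    ext i
    simp [h]
  rw [h1, List.sum_toFinset _ hl]

theorem point_sum {φ : Fin 160 → ℂ} (hφ : φ ∈ V) (a : Fin 40) (l : List (Fin 160)) (hl : l.Nodup)
    (h : ∀ i, FA i = a ↔ i ∈ l) : (l.map φ).sum = 0 := by
  rw [← sum_panel φ (fun i => FA i = a) l hl h]
  exact hφ _ (Submodule.subset_span ⟨Sum.inl a, rfl⟩)

theorem line_sum {φ : Fin 160 → ℂ} (hφ : φ ∈ V) (a : Fin 40) (l : List (Fin 160)) (hl : l.Nodup)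
    (h : ∀ i, FM i = a ↔ i ∈ l) : (l.map φ).sum = 0 := by
  rw [← sum_panel φ (fun i => FM i = a) l hl h]
  exact hφ _ (Submodule.subset_span ⟨Sum.inr a, rfl⟩)

/-- The coefficients. -/
noncomputable def AA : Fin 8 → ℂ := ![1, 1 / 81, -1 / 27, -1 / 27, 1 / 9, 1 / 9, -1 / 3, -1 / 3]

theorem cl_lt (i : Fin 160) : cls.getD i 0 < 8 := by
  have h := chkR
  rw [Bool.and_eq_true] at h
  have h1 := rng h.2 i.2
  rwa [Nat.blt_eq] at h1

/-- The class of a flag. -/
def cl (i : Fin 160) : Fin 8 := ⟨cls.getD i 0, cl_lt i⟩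

/-- The representatives of the classes. -/
def rt (j : Fin 8) : Fin 160 := Fin.ofNat 160 (roots.getD j 0)

theorem relations {φ : Fin 160 → ℂ} (hφ : φ ∈ V) {b : Fin 8 → ℂ} (h : ∀ i, φ i = b (cl i)) (j : Fin 8) :
    b j = b 0 * AA j := by
  have e1 := point_sum hφ 1 [21, 24, 66, 102] (by decide) (by decide +kernel)
  have e2 := line_sum hφ 4 [85, 102, 105, 149] (by decide) (by decide +kernel)
  have e3 := point_sum hφ 9 [111, 116, 126, 137] (by decide) (by decide +kernel)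
  have e4 := line_sum hφ 1 [136, 137, 139, 156] (by decide) (by decide +kernel)
  have e5 := point_sum hφ 8 [148, 149, 150, 159] (by decide) (by decide +kernel)
  have e6 := point_sum hφ 0 [0, 154, 155, 156] (by decide) (by decide +kernel)
  have e7 := line_sum hφ 0 [0, 157, 158, 159] (by decide) (by decide +kernel)
  have c : cl 21 = 1 ∧ cl 24 = 1 ∧ cl 66 = 1 ∧ cl 102 = 2 ∧ cl 85 = 2 ∧ cl 105 = 2 ∧ cl 149 = 5 ∧ cl 111 = 3 ∧
      cl 116 = 3 ∧ cl 126 = 3 ∧ cl 137 = 4 ∧ cl 136 = 4 ∧ cl 139 = 4 ∧ cl 156 = 6 ∧ cl 148 = 5 ∧ cl 150 = 5 ∧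
      cl 159 = 7 ∧ cl 0 = 0 ∧ cl 154 = 6 ∧ cl 155 = 6 ∧ cl 157 = 7 ∧ cl 158 = 7 := by decide +kernel
  obtain ⟨c1, c2, c3, c4, c5, c6, c7, c8, c9, c10, c11, c12, c13, c14, c15, c16, c17, c18, c19, c20, c21, c22⟩ := c
  simp only [List.map_cons, List.map_nil, List.sum_cons, List.sum_nil, h, c1, c2, c3, c4, c5, c6, c7, c8, c9, c10, c11,
    c12, c13, c14, c15, c16, c17, c18, c19, c20, c21, c22] at e1 e2 e3 e4 e5 e6 e7
  have f6 : b 6 = -(1 / 3) * b 0 := by linear_combination (1 / 3) * e6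
  have f7 : b 7 = -(1 / 3) * b 0 := by linear_combination (1 / 3) * e7
  have f4 : b 4 = -(1 / 3) * b 6 := by linear_combination (1 / 3) * e4
  have f5 : b 5 = -(1 / 3) * b 7 := by linear_combination (1 / 3) * e5
  have f2 : b 2 = -(1 / 3) * b 5 := by linear_combination (1 / 3) * e2
  have f3 : b 3 = -(1 / 3) * b 4 := by linear_combination (1 / 3) * e3
  have f1 : b 1 = -(1 / 3) * b 2 := by linear_combination (1 / 3) * e1
  fin_cases j
  · simp [AA]
  · simp only [AA]; simp; rw [f1, f2, f5, f7]; ring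
  · simp only [AA]; simp; rw [f2, f5, f7]; ring
  · simp only [AA]; simp; rw [f3, f4, f6]; ring
  · simp only [AA]; simp; rw [f4, f6]; ring
  · simp only [AA]; simp; rw [f5, f7]; ring
  · simp only [AA]; simp; rw [f6]; ring
  · simp only [AA]; simp; rw [f7]; ring

theorem conj_AA (j : Fin 8) : conj (AA j) = AA j := by
  fin_cases j <;> simp [AA, Complex.conj_ofNat]

theorem nrm_v : nrm (fun i => AA (cl i)) = 160 / 81 := by
  rw [nrm_cls cl ![1, 81, 27, 27, 9, 9, 3, 3] (by decide +kernel) AA]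
  simp only [conj_AA]
  simp [Fin.sum_univ_succ, AA]
  norm_num

/-- **The Steinberg character.** -/
theorem exists_chi {G : Type u} [Group G] [Finite G] [MulAction G (Fin 160)] (ρ : G →* ↥Gam)
    (hρ : ∀ (g : G) (i : Fin 160), g • i = ρ g • i)
    (hV : ∀ (g : G), ∀ φ ∈ V, (fun x => φ (g⁻¹ • x)) ∈ V)
    (g : ℕ → G) (hg : ∀ k < 3, ∀ q : Fin 40, (((ρ (g k) : ↥Gam) : Equiv.Perm (Fin 40)) q : ℕ) = pq k q) :
    MulAction.IsPretransitive G (Fin 160) ∧ ∃ χ : IrrCharacter G, charDegree (χ : G → ℂ) = 81 ∧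
      (χ : G → ℂ) = (rep V hV).character := by
  have hf : ∀ k < 3, ∀ i : Fin 160, ((g k • i : Fin 160) : ℕ) = pf k i := by
    intro k hk i
    rw [hρ]
    show ((fl (ρ (g k)) i : Fin 160) : ℕ) = _
    have h1 := F_fl (ρ (g k)).2 i
    have h2 : ((ρ (g k) • i : Fin 160) : ℕ) = fi (FA (ρ (g k) • i)) (FM (ρ (g k) • i)) :=
      (flag_spec (ρ (g k) • i)).2.2.2.symm
    have h3 : ((FM (fl (ρ (g k)) i) : Fin 40) : ℕ) = tl (pq k (L0.getD (fm.getD i 0) 0)) (pq k (L1.getD (fm.getD i 0) 0)) := by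
      rw [h1.2]
      obtain ⟨ht, -⟩ := tl_spec (((ρ (g k)).2 (l0 (FM i)) (l1 (FM i))).trans (adj_l (FM i)))
      rw [ln, dif_pos ht]
      show tl _ _ = _
      rw [hg k hk, hg k hk]
      rfl
    have h4 : ((FA (fl (ρ (g k)) i) : Fin 40) : ℕ) = pq k (fa.getD i 0) := by
      rw [h1.1, hg k hk]
      rfl
    have h5 : ((fl (ρ (g k)) i : Fin 160) : ℕ) = fi (FA (fl (ρ (g k)) i)) (FM (fl (ρ (g k)) i)) := h2
    rw [h5, h3, h4]
    rfl
  -- the tree
  have htree : ∀ i : Fin 160, i ≠ 0 → ∃ j : Fin 160, ∃ k < 3, (j : ℕ) < i ∧ g k • j = i ∧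
      ((k = 2 ∧ rt (cl i) = i) ∨ (k ≠ 2 ∧ cl i = cl j)) := by
    intro i hi
    have h := rng chkT i.2
    rw [Bool.or_eq_true, Bool.and_eq_true, Bool.and_eq_true, Bool.and_eq_true, Nat.blt_eq, Nat.blt_eq] at h
    rcases h with h | ⟨⟨⟨h1, h2⟩, h3⟩, h4⟩
    · exact absurd (Fin.ext (Nat.eq_of_beq_eq_true h)) hi
    · refine ⟨⟨par.getD i 0, h1.trans i.2⟩, lt.getD i 0, h2, h1, ?_, ?_⟩
      · apply Fin.ext
        rw [hf _ h2]
        exact Nat.eq_of_beq_eq_true h3
      · by_cases h5 : lt.getD i 0 = 2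
        · rw [if_pos h5] at h4
          left
          refine ⟨h5, ?_⟩
          apply Fin.ext
          show (roots.getD (cls.getD i 0) 0) % 160 = i
          rw [Nat.eq_of_beq_eq_true h4]
          exact Nat.mod_eq_of_lt i.2
        · rw [if_neg h5] at h4
          exact Or.inr ⟨h5, Fin.ext (Nat.eq_of_beq_eq_true h4)⟩
  have htr : ∀ i : Fin 160, ∃ x : G, x • (0 : Fin 160) = i := by
    intro i
    obtain ⟨n, hn⟩ : ∃ n : ℕ, (i : ℕ) = n := ⟨_, rfl⟩
    induction n using Nat.strong_induction_on generalizing i with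
    | _ n ih =>
      by_cases h0 : i = 0
      · exact ⟨1, by rw [h0, one_smul]⟩
      · obtain ⟨j, k, -, hj, h1, -⟩ := htree i h0
        obtain ⟨x, hx⟩ := ih j (by omega) j rfl
        exact ⟨g k * x, by rw [mul_smul, hx, h1]⟩
  have hpre : MulAction.IsPretransitive G (Fin 160) := by
    constructor
    intro i j
    obtain ⟨x, hx⟩ := htr i
    obtain ⟨y, hy⟩ := htr j
    exact ⟨y * x⁻¹, by rw [mul_smul, ← hx, inv_smul_smul, hy]⟩
  refine ⟨hpre, ?_⟩
  have hfix : ∀ k < 2, g k • (0 : Fin 160) = 0 := by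
    intro k hk
    apply Fin.ext
    rw [hf k (by omega)]
    have h := chkR
    simp only [Bool.and_eq_true] at h
    interval_cases k
    · exact Nat.eq_of_beq_eq_true h.1.1.1
    · exact Nat.eq_of_beq_eq_true h.1.1.2
  have hr0 : rt (cl 0) = 0 := by decide +kernel
  obtain ⟨-, χ, h1, -, h3⟩ := exists_of_top (G := G) hV V_ne 0 (Subgroup.closure {g 0, g 1}) (by
    intro x hx
    have h : Subgroup.closure {g 0, g 1} ≤ MulAction.stabilizer G (0 : Fin 160) := by
      rw [Subgroup.closure_le]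
      rintro x (rfl | rfl)
      · exact hfix 0 (by norm_num)
      · exact hfix 1 (by norm_num)
    exact h hx) (v := fun i => AA (cl i)) (by
      have : cl 0 = 0 := by decide +kernel
      simp [this, AA]) (by
    intro φ hφ hK
    have hb : ∀ i : Fin 160, φ i = φ (rt (cl i)) := by
      intro i
      obtain ⟨n, hn⟩ : ∃ n : ℕ, (i : ℕ) = n := ⟨_, rfl⟩
      induction n using Nat.strong_induction_on generalizing i with
      | _ n ih =>
        by_cases h0 : i = 0
        · rw [h0, hr0]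
        · obtain ⟨j, k, hk, hj, h1, h2⟩ := htree i h0
          rcases h2 with ⟨-, h2⟩ | ⟨h4, h2⟩
          · rw [h2]
          · rw [h2, ← ih j (by omega) j rfl, ← h1]
            refine hK _ (Subgroup.subset_closure ?_) j
            interval_cases k
            · exact Or.inl rfl
            · exact Or.inr rfl
            · exact absurd rfl h4
    have h := relations hφ (b := fun j => φ (rt j)) hb
    refine ⟨φ (rt 0), funext fun i => ?_⟩
    rw [hb, h (cl i)]
    rfl)
  refine ⟨χ, ?_, h3⟩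
  rw [nrm_v, Fintype.card_fin] at h1
  have h4 : (charDegree (χ : G → ℂ) : ℂ) = 81 := by
    field_simp at h1
    push_cast at h1
    linear_combination (1 / 160 : ℂ) * h1
  exact_mod_cast h4

/-! ### Rigidity -/

theorem same_smul {σ : ↥Gam} (h0 : σ • (0 : Fin 160) = 0) (h1 : σ • (1 : Fin 160) = 1) {n : ℕ}
    (hn : ∀ o : Fin 40, (o : ℕ) ∈ OO.take n → (σ : Equiv.Perm (Fin 40)) o = o) {r p : Fin 40}
    (h : same n r p = true) : same n ((σ : Equiv.Perm (Fin 40)) r) p = true := by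
  unfold same at h ⊢
  simp only [Bool.and_eq_true, beq_iff_eq, List.all_eq_true] at h ⊢
  obtain ⟨⟨h2, h3⟩, h4⟩ := h
  have e0 : FM 0 = ln σ (FM 0) := by
    conv_lhs => rw [← h0]
    exact FM_smul σ 0
  have e1 : FM 1 = ln σ (FM 1) := by
    conv_lhs => rw [← h1]
    exact FM_smul σ 1
  refine ⟨⟨?_, ?_⟩, ?_⟩
  · rw [← h2]
    show inc ((σ : Equiv.Perm (Fin 40)) r) (FM 0) = inc r (FM 0)
    conv_lhs => rw [e0]
    exact inc_ln σ.2 r (FM 0)
  · rw [← h3]
    show inc ((σ : Equiv.Perm (Fin 40)) r) (FM 1) = inc r (FM 1)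
    conv_lhs => rw [e1]
    exact inc_ln σ.2 r (FM 1)
  · intro o ho
    rw [← h4 o ho]
    have ho40 : o < 40 := by
      have h := chkO
      simp only [Bool.and_eq_true, List.all_eq_true, Nat.blt_eq] at h
      exact h.2 o (List.mem_of_mem_take ho)
    have h5 := hn ⟨o, ho40⟩ ho
    have h6 := σ.2 r ⟨o, ho40⟩
    rw [h5] at h6
    exact h6

/-- **Rigidity.** -/
theorem rigid {σ : ↥Gam} (h0 : σ • (0 : Fin 160) = 0) (h1 : σ • (1 : Fin 160) = 1) {N : ℕ} (hN : Odd N)
    (hσ : σ ^ N = 1) : σ = 1 := by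
  have hodd : ∀ p : Fin 40, (σ : Equiv.Perm (Fin 40)) ((σ : Equiv.Perm (Fin 40)) p) = p → (σ : Equiv.Perm (Fin 40)) p = p := by
    intro p hp
    obtain ⟨m, rfl⟩ := hN
    have h2 : ∀ m : ℕ, ((σ : Equiv.Perm (Fin 40)) ^ (2 * m)) p = p := by
      intro m
      induction m with
      | zero => rfl
      | succ m ih => rw [Nat.mul_succ, pow_add, Equiv.Perm.mul_apply, pow_two, Equiv.Perm.mul_apply, hp, ih]
    have h3 : ((σ : Equiv.Perm (Fin 40)) ^ (2 * m + 1)) p = p := by
      rw [← Subgroup.coe_pow, hσ]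
      rfl
    rw [pow_succ', Equiv.Perm.mul_apply, h2] at h3
    exact h3
  have hO := chkO
  simp only [Bool.and_eq_true, List.all_eq_true, Nat.blt_eq] at hO
  obtain ⟨⟨⟨⟨hO1, hO2⟩, hO3⟩, hO4⟩, hO5⟩ := hO
  have hlen : OO.length = 40 := Nat.eq_of_beq_eq_true hO4
  have key : ∀ n ≤ 40, ∀ o : Fin 40, (o : ℕ) ∈ OO.take n → (σ : Equiv.Perm (Fin 40)) o = o := by
    intro n
    induction n with
    | zero =>
      intro _ o ho
      rw [List.take_zero] at ho
      exact absurd ho List.not_mem_nil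
    | succ n ih =>
      intro hn o ho
      have ih' := ih (by omega)
      rw [List.take_succ_eq_append_getElem (by omega), List.mem_append] at ho
      rcases ho with ho | ho
      · exact ih' o ho
      · rw [List.mem_singleton] at ho
        have hon : OO.getD n 0 = o := by rw [List.getD_eq_getElem _ _ (by omega), ho]
        by_cases hn2 : n < 2
        · interval_cases n
          · have h3 : o = FA 0 := Fin.ext (by rw [← hon]; exact Nat.eq_of_beq_eq_true hO1)
            rw [h3, ← FA_smul, h0]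
          · have h3 : o = FA 1 := Fin.ext (by rw [← hon]; exact Nat.eq_of_beq_eq_true hO2)
            rw [h3, ← FA_smul, h1]
        · have hs : ∀ r : Fin 40, same n r o = true → r = o ∨ (r : ℕ) = MT.getD n 0 ∨ (σ : Equiv.Perm (Fin 40)) r = r := by
            intro r hr
            have h3 := rng chkS (i := n) (by omega)
            rw [Bool.or_eq_true, Nat.blt_eq] at h3
            replace h3 := rng (h3.resolve_left hn2) r.2
            rw [hon, hr] at h3
            simp only [Bool.or_eq_true, Bool.not_true, Bool.false_eq_true, false_or,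
              List.contains_iff_mem] at h3
            rcases h3 with (h3 | h3) | h3
            · exact Or.inl (Fin.ext (Nat.eq_of_beq_eq_true h3))
            · exact Or.inr (Or.inl (Nat.eq_of_beq_eq_true h3))
            · exact Or.inr (Or.inr (ih' r h3))
          have s0 : same n o o = true := by
            unfold same
            simp
          have s1 := same_smul h0 h1 ih' s0
          have s2 := same_smul h0 h1 ih' s1
          rcases hs _ s1 with h3 | h3 | h3
          · exact h3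
          · rcases hs _ s2 with h4 | h4 | h4
            · exact hodd o h4
            · have h5 : (σ : Equiv.Perm (Fin 40)) ((σ : Equiv.Perm (Fin 40)) o) = (σ : Equiv.Perm (Fin 40)) o :=
                Fin.ext (h4.trans h3.symm)
              exact (σ : Equiv.Perm (Fin 40)).injective h5
            · exact (σ : Equiv.Perm (Fin 40)).injective ((σ : Equiv.Perm (Fin 40)).injective h4)
          · exact (σ : Equiv.Perm (Fin 40)).injective h3
  apply Subtype.ext
  ext1 o
  have h3 : (o : ℕ) ∈ OO := List.contains_iff_mem.1 (hO3 o (List.mem_range.2 o.2))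
  rw [← List.take_length (l := OO), hlen] at h3
  rw [key 40 le_rfl o h3]
  rfl

end Cfsg.Agent.H843.IMC.Co2Q
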