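import Cfsg.Agent.SporadicStructure.Co0Matrix
import Cfsg.Agent.SporadicA.Dodecad

/-!
# Lists of lattice vectors (helper843)
-/

set_option autoImplicit false

namespace Cfsg.Agent.H843.IMC.LeechConv

open Cfsg Cfsg.Agent.SporadicA Cfsg.Agent.SporadicStructure.Co0Matrix

theorem maskL_lt : ∀ l : List ℤ, maskL l < 2 ^ l.length
  | [] => by simp [maskL]
  | a :: t => by
    have h := maskL_lt t
    rw [List.length_cons, pow_succ]
    show (a % 2).toNat + 2 * maskL t < _
    omega

/-- The list of a lattice vector passes the check. -/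
theorem leechB_of_mem {l : List ℤ} (hl : l.length = 24) (h : vec l ∈ leechLattice) : leechB l = true := by
  obtain ⟨m, z, h1, h2, h3⟩ := (LeechSet.mem_leechLattice_iff' _).1 h
  obtain ⟨m0, hm0⟩ : ∃ m0, m0 = l.headD 0 % 2 := ⟨_, rfl⟩
  have hhead : l.headD 0 = vec l (GolayBase.pt 0) := by
    rw [vec_apply, GolayBase.idx_pt (by norm_num)]
    cases l with
    | nil => rfl
    | cons a t => rfl
  obtain ⟨j, hj⟩ : ∃ j : ℤ, m = m0 + 2 * j := by
    refine ⟨m / 2, ?_⟩
    rw [hm0, hhead, h1]
    omega
  have hz : ∀ p, (vec l p - m0) / 2 = j + z p := by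
    intro p
    rw [h1, hj]
    omega
  simp only [leechB, ← hm0, Bool.and_eq_true]
  refine ⟨⟨⟨?_, ?_⟩, ?_⟩, ?_⟩
  · rw [hl]
    rfl
  · rw [List.all_eq_true]
    intro a ha
    obtain ⟨i, hi, rfl⟩ := List.getElem_of_mem ha
    have h4 : l[i] = vec l (GolayBase.pt i) := by
      rw [vec_apply, GolayBase.idx_pt (by omega), List.getD_eq_getElem _ _ hi]
    rw [decide_eq_true_eq, h4, h1, hj]
    omega
  · rw [decide_eq_true_eq]
    rw [sum_vec l hl.le] at h2
    have h4 : l.sum % 8 = (4 * m) % 8 := h2
    rw [hj] at h4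
    omega
  · have h4 : (fun p => (((j + z p : ℤ)) : ZMod 2)) ∈ golayCode := by
      have h5 := golayCode.add_mem (golayCode.smul_mem ((j : ℤ) : ZMod 2) Dodecad.one_mem_golayCode) h3
      convert h5 using 1
      funext p
      simp
    have h5 : (fun p => (((j + z p : ℤ)) : ZMod 2)) = GolayBase.word (maskL (l.map fun a => (a - m0) / 2)) := by
      funext p
      rw [GolayBase.word_apply, testBit_maskL]
      have e : (l.map fun a => (a - m0) / 2).getD (GolayBase.idx p) 0 = (vec l p - m0) / 2 := by
        rw [vec_apply, List.getD_eq_getElem _ _ (by rw [List.length_map, hl]; exact GolayBase.idx_lt p),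
          List.getD_eq_getElem _ _ (by rw [hl]; exact GolayBase.idx_lt p), List.getElem_map]
      rw [e, hz]
      generalize j + z p = y
      rcases Int.emod_two_eq_zero_or_one y with hy | hy
      · rw [hy]
        simp only [zero_ne_one, decide_false, Bool.false_eq_true, if_false]
        rw [ZMod.intCast_zmod_eq_zero_iff_dvd]
        exact Int.dvd_of_emod_eq_zero hy
      · rw [hy]
        simp only [decide_true, if_true]
        have : ((y : ℤ) : ZMod 2) = ((1 : ℤ) : ZMod 2) := by
          rw [ZMod.intCast_eq_intCast_iff]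
          show y % 2 = 1 % 2
          rw [hy]; rfl
        rw [this]; rfl
    rw [h5, GolayBase.mem_golayCode_iff, GolayBase.maskW_word] at h4
    · exact h4
    · have h6 := maskL_lt (l.map fun a => (a - m0) / 2)
      rwa [List.length_map, hl] at h6

end Cfsg.Agent.H843.IMC.LeechConv
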