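import Cfsg.Agent.H843.IMC.Co2V

/-!
# The normalizer of the element of order 3 of `Co2` acts on the quadrangle (helper843)
-/

set_option autoImplicit false

namespace Cfsg.Agent.H843.IMC.Co2W

open Cfsg Cfsg.Agent.SporadicA Cfsg.Agent.SporadicStructure.Co0Matrix Cfsg.Agent.CoOneType.CoEval
open Cfsg.Agent.SporadicA.Co0Mono Cfsg.Agent.SporadicA.Co1Simple
open Cfsg.Agent.SporadicA.GolayBase (idx pt)
open Cfsg.Agent.LThreeCo1Twelve.Perm Cfsg.Agent.LThreeCo1Twelve.Mono Cfsg.Agent.LThreeCo1Twelve.Strip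
open Cfsg.Agent.SporadicStructure.Co0Base (e8 e8_coe co0_dotInt co0_sqNorm)
open Cfsg.Agent.SporadicStructure.LeechBase (zmod2_cases)
open Cfsg.Agent.CoOneType.SignFacts
open Cfsg.Agent.KFacts.Co1.OctGen (mem_N_of_smul_e8)
open Cfsg.Agent.H843.IMC.Co2D Cfsg.Agent.H843.IMC.Co2Q Cfsg.Agent.H843.IMC.Co2V
open scoped Pointwise

/-! ### The groups -/

/-- The stabilizer of `w`. -/
abbrev Gw : Type := ↥(MulAction.stabilizer Co0 v1)

/-- The element of order 3. -/
noncomputable def x : Gw := ⟨s0, sv1⟩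

theorem s0_ne : s0 ≠ 1 := Cfsg.Agent.LThreeCo1Twelve.Norm.s0_ne

theorem orderOf_x : orderOf x = 3 := by
  have : Fact (Nat.Prime 3) := ⟨Nat.prime_three⟩
  refine orderOf_eq_prime (Subtype.ext ?_) fun h => s0_ne (congrArg Subtype.val h)
  show s0 ^ 3 = 1
  rw [← s0_cube, pow_succ, pow_two]

/-- The normalizer. -/
noncomputable abbrev NN : Subgroup Gw := Subgroup.normalizer ((Subgroup.zpowers x : Subgroup Gw) : Set Gw)

/-- The centralizer. -/
noncomputable abbrev KK : Subgroup Gw := Subgroup.centralizer ((Subgroup.zpowers x : Subgroup Gw) : Set Gw)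

theorem KK_eq : KK = Subgroup.centralizer {x} := by
  rw [KK, Subgroup.zpowers_eq_closure, Subgroup.centralizer_closure]

theorem mem_KK {g : Gw} : g ∈ KK ↔ (g : Co0) * s0 = s0 * (g : Co0) := by
  rw [KK_eq, Subgroup.mem_centralizer_singleton_iff]
  exact ⟨fun h => congrArg Subtype.val h, fun h => Subtype.ext h⟩

theorem KK_le : KK ≤ NN := by
  intro g hg
  rw [Subgroup.mem_normalizer_iff]
  intro h
  have key : ∀ h, h ∈ Subgroup.zpowers x → g * h * g⁻¹ = h := fun h hh => by
    rw [← Subgroup.mem_centralizer_iff.1 hg h hh, mul_inv_cancel_right]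
  constructor
  · intro hh
    rw [key h hh]
    exact hh
  · intro hh
    have h1 := key _ hh
    have h2 : g * h * g⁻¹ = h := by
      have h3 : g * (g * h * g⁻¹) = g * h := by
        calc g * (g * h * g⁻¹) = (g * (g * h * g⁻¹) * g⁻¹) * g := by group
          _ = g * h * g⁻¹ * g := by rw [h1]
          _ = g * h := by group
      exact mul_left_cancel h3
    rwa [h2] at hh

/-! ### The vectors -/

theorem cyL_tb : ∀ p : GolayPt, cyL.getD (idx (tb p)) 0 = cyL.getD (idx p) 0 := by decide +kernel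

theorem vec_L (i : ℕ) (p : GolayPt) : vec (L i) p = dec (Ls.getD i 75059993789508) (cyL.getD (idx p) 0) := by
  rw [vec_apply, L, getD_map cyL _ 0 0 (by rw [length_cyL]; exact GolayBase.idx_lt p)]

theorem s0_vv {i : ℕ} (hi : i < 82) : s0 • vv i = vv i := by
  apply s0_fix
  intro p
  rw [vv_coe hi, vec_L, vec_L, cyL_tb]

theorem sq_vv {i : ℕ} (hi : i < 82) : sqNorm (vv i : GolayPt → ℤ) = 32 := by
  have h := rng chk_n hi
  rw [Bool.and_eq_true, decide_eq_true_eq] at h
  rw [vv_coe hi, sqNorm_eq_dot, dotInt_vec _ _ (length_L i).le, h.1]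

theorem dot_vv {i : ℕ} (hi : i < 82) : dotInt (vv i : GolayPt → ℤ) (v1 : GolayPt → ℤ) = 16 := by
  have h := rng chk_n hi
  rw [Bool.and_eq_true, decide_eq_true_eq, decide_eq_true_eq] at h
  rw [vv_coe hi, v1_coe, dotInt_vec _ _ (length_L i).le]
  exact h.2

theorem vv_inj {i j : ℕ} (hi : i < 82) (hj : j < 82) (h : vv i = vv j) : i = j := by
  have h1 : vec (L i) = vec (L j) := by rw [← vv_coe hi, ← vv_coe hj, h]
  have h2 := vec_injective (length_L i) (length_L j) h1
  have h3 := Nat.eq_of_beq_eq_true (rng chkE hi)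
  have h4 := Nat.eq_of_beq_eq_true (rng chkE hj)
  rw [h2, h4] at h3
  have hi' : i < Ls.length := by rw [length_Ls]; exact hi
  have hj' : j < Ls.length := by rw [length_Ls]; exact hj
  rw [List.getD_eq_getElem _ _ hi', List.getD_eq_getElem _ _ hj'] at h3
  exact ((nodup_Ls.getElem_inj_iff).1 h3).symm

/-- Image of a vector fixed by `s0`. -/
theorem fix_smul {n : Gw} (hn : n ∈ NN) {v : leechLattice} (hv : s0 • v = v) :
    s0 • ((n : Co0) • v) = (n : Co0) • v := by
  have h1 : n⁻¹ * x * n ∈ Subgroup.zpowers x := by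
    have h2 := (Subgroup.mem_normalizer_iff.1 (NN.inv_mem hn) x).1 (Subgroup.mem_zpowers x)
    rwa [inv_inv] at h2
  obtain ⟨k, hk⟩ := Subgroup.mem_zpowers_iff.1 h1
  have h2 : s0 * (n : Co0) = (n : Co0) * s0 ^ k := by
    have h3 : x * n = n * x ^ k := by rw [hk]; group
    exact congrArg Subtype.val h3
  have h3 : s0 ^ k • v = v :=
    (MulAction.stabilizer Co0 v).zpow_mem (MulAction.mem_stabilizer_iff.2 hv) k
  rw [← mul_smul, h2, mul_smul, h3]

theorem smul_vv {n : Gw} (hn : n ∈ NN) {i : ℕ} (hi : i < 82) : ∃ j < 82, (n : Co0) • vv i = vv j := by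
  refine complete (fix_smul hn (s0_vv hi)) ?_ ?_
  · rw [co0_sqNorm, sq_vv hi]
  · rw [← dot_vv hi]
    have h1 : (n : Co0) • v1 = v1 := n.2
    have h2 := co0_dotInt (n : Co0) (vv i) v1
    rw [h1] at h2
    exact h2

/-! ### The pairs -/

/-- The pairs. -/
def PS (q : ℕ) : Set leechLattice := {vv (2 * q), vv (2 * q + 1)}

theorem vec_zip : ∀ {l l' : List ℤ}, l.length = l'.length → vec (List.zipWith (· + ·) l l') = vec l + vec l' := by
  intro l l' h
  funext p
  rw [Pi.add_apply, vec_apply, vec_apply, vec_apply]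
  by_cases hp : GolayBase.idx p < l.length
  · have hp' : GolayBase.idx p < l'.length := h ▸ hp
    rw [List.getD_eq_getElem _ _ hp, List.getD_eq_getElem _ _ hp', List.getD_eq_getElem _ _ (by simp [h, hp']),
      List.getElem_zipWith]
  · have h1 : l.length ≤ GolayBase.idx p := by omega
    have h2 : l'.length ≤ GolayBase.idx p := by omega
    rw [List.getD_eq_default _ _ h1, List.getD_eq_default _ _ h2, List.getD_eq_default _ _ (by simp [h1]), add_zero]

theorem add_pair {q : ℕ} (hq : q < 41) : vv (2 * q) + vv (2 * q + 1) = v1 := by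
  have h := rng chkP hq
  apply Subtype.ext
  show ((vv (2 * q) : leechLattice) : GolayPt → ℤ) + ((vv (2 * q + 1) : leechLattice) : GolayPt → ℤ) = _
  rw [vv_coe (by omega), vv_coe (by omega), v1_coe, ← vec_zip (by rw [length_L, length_L]), eqL_eq h]
  rfl

theorem second {q : ℕ} (hq : q < 41) : vv (2 * q + 1) = v1 - vv (2 * q) := by rw [← add_pair hq]; abel

theorem first {q : ℕ} (hq : q < 41) : vv (2 * q) = v1 - vv (2 * q + 1) := by rw [← add_pair hq]; abel

theorem smul_PS (g : Co0) (q : ℕ) : g • PS q = {g • vv (2 * q), g • vv (2 * q + 1)} := by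
  rw [PS, Set.smul_set_insert, Set.smul_set_singleton]

theorem mem_PS {j r : ℕ} (hj : j < 82) (hr : r < 41) : vv j ∈ PS r ↔ j / 2 = r := by
  constructor
  · intro h
    rcases h with h | h
    · have h1 := vv_inj hj (by omega) h
      omega
    · have h1 := vv_inj hj (by omega) h
      omega
  · intro h
    rcases Nat.mod_two_eq_zero_or_one j with h1 | h1
    · left
      rw [show j = 2 * r by omega]
    · right
      rw [show j = 2 * r + 1 by omega]
      rfl

theorem PS_inj {q r : ℕ} (hq : q < 41) (hr : r < 41) (h : PS q = PS r) : q = r := by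
  have h1 : vv (2 * q) ∈ PS r := by rw [← h]; exact Or.inl rfl
  have h2 := (mem_PS (by omega) hr).1 h1
  omega

theorem PS_eq_of_mem {g : Co0} (hg : g • v1 = v1) {q j : ℕ} (hq : q < 41) (hj : j < 82)
    (h : g • vv (2 * q) = vv j) : g • PS q = PS (j / 2) := by
  have h1 : g • vv (2 * q + 1) = v1 - vv j := by
    rw [second hq, Cfsg.Agent.SporadicA.Co0Mono.smul_sub, hg, h]
  rw [smul_PS, h, h1]
  rcases Nat.mod_two_eq_zero_or_one j with h2 | h2
  · have h3 : j = 2 * (j / 2) := by omega
    have h4 := second (q := j / 2) (by omega)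
    rw [← h3] at h4
    rw [← h4, PS, ← h3]
  · have h3 : j = 2 * (j / 2) + 1 := by omega
    have h4 := first (q := j / 2) (by omega)
    rw [← h3] at h4
    rw [← h4, Set.pair_comm, PS, ← h3]

theorem smul_v1 (n : Gw) : (n : Co0) • v1 = v1 := n.2

theorem exists_smul_PS {n : Gw} (hn : n ∈ NN) (q : Fin 40) : ∃ r : Fin 40, (n : Co0) • PS q = PS r := by
  have hq := q.2
  obtain ⟨j, hj, h⟩ := smul_vv hn (i := 2 * q) (by omega)
  have h1 := PS_eq_of_mem (smul_v1 n) (by omega) hj h
  by_cases h2 : j / 2 < 40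
  · exact ⟨⟨j / 2, h2⟩, h1⟩
  · exfalso
    have hz := chkZ
    rw [Bool.and_eq_true] at hz
    obtain ⟨hz1, hz2⟩ := hz
    have h3 := rng hz1 hq
    rw [Bool.and_eq_true, decide_eq_true_eq, Nat.blt_eq] at h3
    obtain ⟨i, hi, h4⟩ := smul_vv hn h3.2
    have h5 : dotInt (vv j : GolayPt → ℤ) (vv i : GolayPt → ℤ) = 0 := by
      rw [← h, ← h4, co0_dotInt, vv_coe (by omega), vv_coe h3.2, dotInt_vec _ _ (length_L _).le, h3.1]
    rw [vv_coe hj, vv_coe hi, dotInt_vec _ _ (length_L _).le] at h5
    have h6 := rng hz2 hi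
    rw [Bool.and_eq_true, Bool.not_eq_true', Bool.not_eq_true', decide_eq_false_iff_not,
      decide_eq_false_iff_not] at h6
    have h7 : j = 80 ∨ j = 81 := by omega
    rcases h7 with rfl | rfl
    · exact h6.1 h5
    · exact h6.2 h5

/-- The action on the points. -/
noncomputable def act (n : ↥NN) (q : Fin 40) : Fin 40 := Classical.choose (exists_smul_PS n.2 q)

theorem act_spec (n : ↥NN) (q : Fin 40) : ((n : Gw) : Co0) • PS q = PS (act n q) :=
  Classical.choose_spec (exists_smul_PS n.2 q)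

theorem act_eq {n : ↥NN} {q r : Fin 40} (h : ((n : Gw) : Co0) • PS q = PS r) : act n q = r :=
  Fin.ext (PS_inj (by omega) (by omega) ((act_spec n q).symm.trans h))

theorem act_one (q : Fin 40) : act 1 q = q := act_eq (one_smul Co0 _)

theorem act_mul (m n : ↥NN) (q : Fin 40) : act (m * n) q = act m (act n q) := by
  apply act_eq
  show (((m : Gw) : Co0) * ((n : Gw) : Co0)) • PS q = _
  rw [mul_smul, act_spec n q, act_spec m]

/-- The permutation representation. -/
noncomputable def toPerm : ↥NN →* Equiv.Perm (Fin 40) where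
  toFun n := ⟨act n, act n⁻¹, fun q => by rw [← act_mul, inv_mul_cancel, act_one],
    fun q => by rw [← act_mul, mul_inv_cancel, act_one]⟩
  map_one' := Equiv.ext act_one
  map_mul' m n := Equiv.ext (act_mul m n)

theorem toPerm_apply (n : ↥NN) (q : Fin 40) : toPerm n q = act n q := rfl

theorem dot_sub_left (a b c : leechLattice) : dotInt ((a - b : leechLattice) : GolayPt → ℤ) (c : GolayPt → ℤ) =
    dotInt (a : GolayPt → ℤ) (c : GolayPt → ℤ) - dotInt (b : GolayPt → ℤ) (c : GolayPt → ℤ) := by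
  unfold dotInt
  rw [← Finset.sum_sub_distrib]
  refine Finset.sum_congr rfl fun p _ => ?_
  show ((a : GolayPt → ℤ) p - (b : GolayPt → ℤ) p) * _ = _
  ring

theorem dot_comm (a b : GolayPt → ℤ) : dotInt a b = dotInt b a := by
  unfold dotInt
  exact Finset.sum_congr rfl fun p _ => mul_comm _ _

theorem dot_mem {q r : ℕ} (hq : q < 41) (hr : r < 41) {a b : leechLattice} (ha : a ∈ PS q) (hb : b ∈ PS r) :
    dotInt (a : GolayPt → ℤ) (b : GolayPt → ℤ) = 8 ↔
      dotInt (vv (2 * q) : GolayPt → ℤ) (vv (2 * r) : GolayPt → ℤ) = 8 := by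
  have e1 : ∀ i < 82, dotInt (v1 : GolayPt → ℤ) (vv i : GolayPt → ℤ) = 16 := fun i hi => by
    rw [dot_comm, dot_vv hi]
  have h1 : ∀ i < 82, (dotInt (vv (2 * q + 1) : GolayPt → ℤ) (vv i : GolayPt → ℤ) = 8 ↔
      dotInt (vv (2 * q) : GolayPt → ℤ) (vv i : GolayPt → ℤ) = 8) := by
    intro i hi
    rw [second hq, dot_sub_left, e1 i hi]
    omega
  have h2 : ∀ i < 82, (dotInt (vv i : GolayPt → ℤ) (vv (2 * r + 1) : GolayPt → ℤ) = 8 ↔
      dotInt (vv i : GolayPt → ℤ) (vv (2 * r) : GolayPt → ℤ) = 8) := by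
    intro i hi
    rw [dot_comm, dot_comm (vv i : GolayPt → ℤ), second hr, dot_sub_left, e1 i hi]
    omega
  rcases ha with rfl | rfl <;> rcases hb with rfl | rfl
  · rfl
  · exact h2 _ (by omega)
  · exact h1 _ (by omega)
  · exact (h2 _ (by omega)).trans (h1 _ (by omega))

theorem adj_iff (q r : Fin 40) : adj q r = true ↔
    dotInt (vv (2 * q) : GolayPt → ℤ) (vv (2 * r) : GolayPt → ℤ) = 8 := by
  have h := rng (rng chkA q.2) r.2
  rw [Bool.and_eq_true] at h
  rw [eq_of_beq h.1, decide_eq_true_eq, vv_coe (by omega), vv_coe (by omega), dotInt_vec _ _ (length_L _).le]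

theorem toPerm_mem (n : ↥NN) : toPerm n ∈ Gam := by
  intro a b
  rw [Bool.eq_iff_iff, adj_iff, adj_iff, ← co0_dotInt ((n : Gw) : Co0) (vv (2 * a)) (vv (2 * b))]
  refine (dot_mem (q := act n a) (r := act n b) (by omega) (by omega) ?_ ?_).symm
  · rw [← act_spec]
    exact Set.smul_mem_smul_set (Or.inl rfl)
  · rw [← act_spec]
    exact Set.smul_mem_smul_set (Or.inl rfl)

/-- The representation in the group of the quadrangle. -/
noncomputable def rho : ↥NN →* ↥Gam := toPerm.codRestrict Gam toPerm_mem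

theorem rho_apply (n : ↥NN) (q : Fin 40) : ((rho n : ↥Gam) : Equiv.Perm (Fin 40)) q = act n q := rfl

/-! ### The kernel -/

theorem e8_pt : ∀ i : ℕ, i ∈ [0, 12, 3, 10, 20, 21] → ∀ p : GolayPt,
    (if p = pt i then (8 : ℤ) else 0) = vec (Cfsg.Agent.LThreeCo1Twelve.Data.e8L i) p := by
  intro i hi
  simp only [List.mem_cons, List.not_mem_nil, or_false] at hi
  rcases hi with rfl | rfl | rfl | rfl | rfl | rfl <;> decide +kernel

theorem fx_mem : ∀ p : GolayPt, Fx p → ∃ i ∈ [0, 12, 3, 10, 20, 21], p = pt i := by decide +kernel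

theorem eight : ([(0, 1, 15, false), (12, 14, 0, false), (3, 1, 15, true), (10, 3, 13, true), (20, 5, 11, true),
    (21, 7, 9, true)].all fun t => eqL (Cfsg.Agent.LThreeCo1Twelve.Data.e8L t.1)
      (List.zipWith (· + ·) (L t.2.1) (if t.2.2.2 then negL (L t.2.2.1) else L t.2.2.1))) = true := by
  decide +kernel

theorem L_ne : ∀ p : GolayPt, vec (L 16) p ≠ 0 := by decide +kernel

/-- **An element fixing the vectors is a power of `s0`.** -/
theorem of_fix {g : Co0} (h : ∀ i < 80, g • vv i = vv i) : Pw g := by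
  have he : ∀ p, Fx p → g • e8 p = e8 p := by
    intro p hp
    obtain ⟨i, hi, rfl⟩ := fx_mem p hp
    have key : ∀ i j k : ℕ, ∀ b : Bool, i ∈ [0, 12, 3, 10, 20, 21] → j < 80 → k < 80 →
        eqL (Cfsg.Agent.LThreeCo1Twelve.Data.e8L i) (List.zipWith (· + ·) (L j) (if b then negL (L k) else L k)) = true →
        g • e8 (pt i) = e8 (pt i) := by
      intro i j k b hi hj hk hb
      have h1 : e8 (pt i) = vv j + (if b then -vv k else vv k) := by
        apply Subtype.ext
        have h2 : ((vv j + (if b then -vv k else vv k) : leechLattice) : GolayPt → ℤ) =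
            vec (L j) + vec (if b then negL (L k) else L k) := by
          rw [AddSubgroup.coe_add, vv_coe (by omega)]
          congr 1
          cases b
          · exact vv_coe (by omega)
          · rw [if_pos rfl, if_pos rfl, vec_negL, ← vv_coe (i := k) (by omega)]
            rfl
        rw [h2, ← vec_zip (by cases b <;> simp [length_L, negL]), ← eqL_eq hb, e8_coe]
        funext p
        rw [← e8_pt i hi p, Pi.single_apply]
      rw [h1, Cfsg.Agent.SporadicStructure.Co0Base.co0_smul_add, h j hj]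
      congr 1
      cases b
      · exact h k hk
      · rw [if_pos rfl, Cfsg.Agent.SporadicA.Co0Mono.smul_neg, h k hk]
    have h8 := List.all_eq_true.1 eight
    simp only [List.mem_cons, List.not_mem_nil, or_false] at hi
    rcases hi with rfl | rfl | rfl | rfl | rfl | rfl
    · exact key 0 1 15 false (by simp) (by norm_num) (by norm_num) (h8 (0, 1, 15, false) (by simp))
    · exact key 12 14 0 false (by simp) (by norm_num) (by norm_num) (h8 (12, 14, 0, false) (by simp))
    · exact key 3 1 15 true (by simp) (by norm_num) (by norm_num) (h8 (3, 1, 15, true) (by simp))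
    · exact key 10 3 13 true (by simp) (by norm_num) (by norm_num) (h8 (10, 3, 13, true) (by simp))
    · exact key 20 5 11 true (by simp) (by norm_num) (by norm_num) (h8 (20, 5, 11, true) (by simp))
    · exact key 21 7 9 true (by simp) (by norm_num) (by norm_num) (h8 (21, 7, 9, true) (by simp))
  have h0 : g • e8 (pt 0) = e8 (pt 0) := he _ (by decide +kernel)
  obtain ⟨c, π, rfl⟩ := exists_sign_perm (mem_N_of_smul_e8 h0)
  have hπ : ∀ p, Fx p → (π : Equiv.Perm GolayPt) p = p := by
    intro p hp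
    have h1 := he p hp
    rw [mul_smul, perm_smul_e8] at h1
    rcases sgn_smul_e8 c ((π : Equiv.Perm GolayPt) p) with h2 | h2
    · rw [h2] at h1; exact e8_inj h1
    · rw [h2] at h1; exact absurd h1.symm (e8_ne_neg _ _)
  have ht := pw_perm hπ
  have hc : c = 0 := by
    have h1 := h 16 (by norm_num)
    rw [mul_smul, ht.fix (s0_vv (by norm_num))] at h1
    apply Subtype.ext
    funext p
    have h2 := congrArg (fun v : leechLattice => (v : GolayPt → ℤ) p) h1
    simp only [signCo0_smul, signMap_apply] at h2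
    rcases zmod2_cases ((c : GolayPt → ZMod 2) p) with h3 | h3
    · exact h3
    · exfalso
      rw [h3, sgn_one] at h2
      apply L_ne p
      rw [← vv_coe (by norm_num)]
      omega
  rw [hc, signCo0_zero, one_mul]
  exact ht

theorem Pw_mem {g : Gw} (h : Pw (g : Co0)) : g ∈ Subgroup.zpowers x := by
  rcases h with h | h | h
  · rw [show g = 1 from Subtype.ext h]
    exact one_mem _
  · rw [show g = x from Subtype.ext h]
    exact Subgroup.mem_zpowers x
  · rw [show g = x * x from Subtype.ext h]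
    exact Subgroup.mul_mem _ (Subgroup.mem_zpowers x) (Subgroup.mem_zpowers x)

/-- **An element of odd order acting trivially on the quadrangle is a power of `x`.** -/
theorem of_rho_eq_one {n : ↥NN} (h : rho n = 1) {N : ℕ} (hN : Odd N) (hn : n ^ N = 1) :
    (n : Gw) ∈ Subgroup.zpowers x := by
  have h1 : ∀ q : Fin 40, ((n : Gw) : Co0) • PS q = PS q := by
    intro q
    rw [act_spec n q]
    have h2 : act n q = q := by rw [← rho_apply, h]; rfl
    rw [h2]
  have h2 : ∀ i < 80, ((n : Gw) : Co0) • ((n : Gw) : Co0) • vv i = vv i := by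
    intro i hi
    have key : ∀ q < 40, ((n : Gw) : Co0) • ((n : Gw) : Co0) • vv (2 * q) = vv (2 * q) := by
      intro q hq
      have h3 : ((n : Gw) : Co0) • vv (2 * q) ∈ PS q := by
        rw [← h1 ⟨q, hq⟩]
        exact Set.smul_mem_smul_set (Or.inl rfl)
      rcases h3 with h3 | h3
      · rw [h3, h3]
      · rw [h3]
        have h3' : ((n : Gw) : Co0) • vv (2 * q) = vv (2 * q + 1) := h3
        rw [second (by omega), Cfsg.Agent.SporadicA.Co0Mono.smul_sub, smul_v1, h3', ← first (by omega)]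
    rcases Nat.mod_two_eq_zero_or_one i with h3 | h3
    · rw [show i = 2 * (i / 2) by omega]
      exact key _ (by omega)
    · rw [show i = 2 * (i / 2) + 1 by omega, second (by omega), Cfsg.Agent.SporadicA.Co0Mono.smul_sub,
        Cfsg.Agent.SporadicA.Co0Mono.smul_sub, smul_v1, smul_v1, key _ (by omega)]
  have h3 : Pw (((n : Gw) * (n : Gw) : Gw) : Co0) := of_fix fun i hi => by
    show (((n : Gw) : Co0) * ((n : Gw) : Co0)) • vv i = vv i
    rw [mul_smul, h2 i hi]
  have h4 := Pw_mem h3
  obtain ⟨m, rfl⟩ := hN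
  have h5 : (n : Gw) = ((n : Gw) * (n : Gw)) ^ (m + 1) := by
    have h6 : (n : Gw) ^ (2 * m + 1) = 1 := by
      have := congrArg Subtype.val hn
      exact this
    rw [← pow_two, ← pow_mul, show 2 * (m + 1) = (2 * m + 1) + 1 by ring, pow_succ, h6, one_mul]
  rw [h5]
  exact Subgroup.pow_mem _ h4 _

end Cfsg.Agent.H843.IMC.Co2W
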