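import Cfsg.Agent.SporadicStructure.M24El
import Mathlib.Data.Nat.Bitwise

/-!
# Syndromes of sets of points moved by an element of `M24` (helper843)

`exists_moved`: `chk k 0 ((List.range 24).map (syn P bs)) = true` implies that for every injective `j : Fin k → GolayPt`
some word `word m`, `m ∈ bs`, has different sums over the points `j t` and `el P • j t`.
-/

set_option autoImplicit false

namespace Cfsg.Agent.H843.IMC.Syn

open Cfsg Cfsg.Agent.SporadicA.GolayBase Cfsg.Agent.SporadicA.GolayPerm Cfsg.Agent.SporadicStructure.M24El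

/-- The difference of the mask `m` at `a` and at its image. -/
def dlt (P m a : ℕ) : Bool := Nat.beq ((m >>> a) % 2) 1 ^^ Nat.beq ((m >>> papp P a) % 2) 1

/-- The differences packed in a number. -/
def syn (P : ℕ) : List ℕ → ℕ → ℕ
  | [], _ => 0
  | m :: bs, a => bif dlt P m a then 2 * syn P bs a + 1 else 2 * syn P bs a

/-- All sublists of length `k` of `l` have exclusive or different from `s`. -/
def chk : ℕ → ℕ → List ℕ → Bool
  | 0, s, _ => !(Nat.beq s 0)
  | _ + 1, _, [] => true
  | k + 1, s, x :: l => chk k (s ^^^ x) l && chk (k + 1) s l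

/-- Sum of the exclusive or. -/
def xs (l : List ℕ) : ℕ := l.foldr (fun a b => a ^^^ b) 0

theorem xs_nil : xs [] = 0 := rfl

theorem xs_cons (a : ℕ) (l : List ℕ) : xs (a :: l) = a ^^^ xs l := rfl

theorem xs_perm {l l' : List ℕ} (h : l.Perm l') : xs l = xs l' := by
  induction h with
  | nil => rfl
  | cons x _ ih => rw [xs_cons, xs_cons, ih]
  | swap x y l =>
    rw [xs_cons, xs_cons, xs_cons, xs_cons, ← Nat.xor_assoc, ← Nat.xor_assoc, Nat.xor_comm y x]
  | trans _ _ h1 h2 => rw [h1, h2]

theorem chk_spec : ∀ (l : List ℕ) (k s : ℕ), chk k s l = true → ∀ l' : List ℕ, l'.Sublist l → l'.length = k →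
    s ^^^ xs l' ≠ 0 := by
  intro l
  induction l with
  | nil =>
    intro k s h l' hl' hk
    rw [List.sublist_nil] at hl'
    subst hl'
    cases k with
    | zero =>
      rw [xs_nil, Nat.xor_zero]
      intro h0
      rw [chk, h0] at h
      exact absurd h (by decide)
    | succ k => exact absurd hk (by simp)
  | cons x l ih =>
    intro k s h l' hl' hk
    cases k with
    | zero =>
      rw [List.length_eq_zero_iff] at hk
      subst hk
      rw [xs_nil, Nat.xor_zero]
      intro h0
      rw [chk, h0] at h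
      exact absurd h (by decide)
    | succ k =>
      rw [chk, Bool.and_eq_true] at h
      cases hl' with
      | cons _ h1 => exact ih (k + 1) s h.2 l' h1 hk
      | cons_cons _ h1 =>
        rename_i l₁
        rw [xs_cons, ← Nat.xor_assoc]
        refine ih k (s ^^^ x) h.1 l₁ h1 ?_
        rw [List.length_cons] at hk
        omega

/-- Exclusive or of booleans. -/
def xb (l : List Bool) : Bool := l.foldr (fun a b => a ^^ b) false

theorem xb_nil : xb [] = false := rfl

theorem xb_cons (a : Bool) (l : List Bool) : xb (a :: l) = (a ^^ xb l) := rfl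

theorem cond_eq_bit (b : Bool) (n : ℕ) : (bif b then 2 * n + 1 else 2 * n) = Nat.bit b n := by
  cases b <;> rfl

theorem xs_syn (P m : ℕ) (bs : List ℕ) (l : List ℕ) :
    xs (l.map (syn P (m :: bs))) = Nat.bit (xb (l.map (dlt P m))) (xs (l.map (syn P bs))) := by
  induction l with
  | nil => rfl
  | cons a l ih =>
    rw [List.map_cons, List.map_cons, List.map_cons, xs_cons, xs_cons, xb_cons, ih, syn, cond_eq_bit]
    rw [Nat.xor_bit]

theorem xs_eq_zero (P : ℕ) (l : List ℕ) (bs : List ℕ) (h : ∀ m ∈ bs, xb (l.map (dlt P m)) = false) :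
    xs (l.map (syn P bs)) = 0 := by
  induction bs with
  | nil =>
    clear h
    induction l with
    | nil => rfl
    | cons a l ih =>
      rw [List.map_cons, xs_cons, ih]
      show (0 : ℕ) ^^^ 0 = 0
      rfl
  | cons m bs ih =>
    rw [xs_syn, h m List.mem_cons_self, ih fun m' hm' => h m' (List.mem_cons_of_mem _ hm')]
    rfl

theorem exists_mem {P k : ℕ} {bs : List ℕ} (h : chk k 0 ((List.range 24).map (syn P bs)) = true) (l : List ℕ)
    (hl : l.Nodup) (hlt : ∀ a ∈ l, a < 24) (hk : l.length = k) : ∃ m ∈ bs, xb (l.map (dlt P m)) = true := by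
  by_contra hcon
  push Not at hcon
  have h1 := xs_eq_zero P l bs fun m hm => by simpa using hcon m hm
  have h2 : l.Subperm (List.range 24) := List.subperm_of_subset hl fun a ha => List.mem_range.2 (hlt a ha)
  obtain ⟨l', hl', hs⟩ := h2
  have h3 := chk_spec _ k 0 h (l'.map (syn P bs)) (hs.map _) (by rw [List.length_map, hl'.length_eq, hk])
  rw [Nat.zero_xor, xs_perm (hl'.map (syn P bs))] at h3
  exact h3 h1

/-- The value of a bit. -/
def toZ (b : Bool) : ZMod 2 := if b then 1 else 0

theorem toZ_xor (a b : Bool) : toZ (a ^^ b) = toZ a + toZ b := by cases a <;> cases b <;> decide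

theorem toZ_xb (l : List Bool) : toZ (xb l) = (l.map toZ).sum := by
  induction l with
  | nil => rfl
  | cons a l ih => rw [xb_cons, toZ_xor, ih, List.map_cons, List.sum_cons]

theorem beq_testBit (m i : ℕ) : Nat.beq ((m >>> i) % 2) 1 = m.testBit i := by
  rw [← ite_testBit]
  cases m.testBit i <;> decide

theorem word_eq_toZ (m : ℕ) (p : GolayPt) : word m p = toZ (m.testBit (idx p)) := rfl

theorem toZ_dlt {P m : ℕ} (hP : ok P = true) (p : GolayPt) : toZ (dlt P m (idx p)) = word m p + word m (el P • p) := by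
  rw [dlt, toZ_xor, beq_testBit, beq_testBit, word_eq_toZ, word_eq_toZ, idx_el_smul hP]

theorem exists_moved {P k : ℕ} (hP : ok P = true) {bs : List ℕ}
    (h : chk k 0 ((List.range 24).map (syn P bs)) = true) {j : Fin k → GolayPt} (hj : Function.Injective j) :
    ∃ m ∈ bs, ∑ t, word m (j t) ≠ ∑ t, word m (el P • j t) := by
  obtain ⟨m, hm, hx⟩ := exists_mem h (List.ofFn fun t => idx (j t))
    (List.nodup_ofFn.2 (idx_injective.comp hj)) (by
      intro a ha
      obtain ⟨t, rfl⟩ := List.mem_ofFn.1 ha
      exact idx_lt _) (by rw [List.length_ofFn])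
  refine ⟨m, hm, fun hcon => ?_⟩
  have h1 := toZ_xb ((List.ofFn fun t => idx (j t)).map (dlt P m))
  rw [hx, List.map_ofFn, List.map_ofFn, List.sum_ofFn] at h1
  have h2 : ∀ t, (toZ ∘ dlt P m ∘ fun t => idx (j t)) t = word m (j t) + word m (el P • j t) := fun t => toZ_dlt hP (j t)
  rw [Finset.sum_congr rfl fun t _ => h2 t, Finset.sum_add_distrib, hcon] at h1
  have h3 : ∀ a : ZMod 2, a + a = 0 := by decide
  rw [h3] at h1
  exact absurd h1 (by decide)

end Cfsg.Agent.H843.IMC.Syn
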