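import Cfsg.Agent.H843.IMC.AltK
import Cfsg.Agent.H843.IMC.Syn
import Cfsg.Agent.CharDeep.LinearChar

/-!
# Exterior powers restricted to sign changes (helper843)
-/

set_option autoImplicit false
set_option linter.unusedSectionVars false

namespace Cfsg.Agent.H843.IMC.Lam

open Cfsg Cfsg.Agent.H33 Cfsg.Agent.H843.IMC.Syn Cfsg.Agent.SporadicA.GolayBase Cfsg.Agent.SporadicStructure.M24El

/-- The sign of a bit. -/
noncomputable def sgnU : Multiplicative (ZMod 2) →* ℂˣ where
  toFun a := if a.toAdd = 0 then 1 else -1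
  map_one' := by
    show (if (0 : ZMod 2) = 0 then (1 : ℂˣ) else -1) = 1
    rw [if_pos rfl]
  map_mul' a b := by
    have h : ∀ a b : ZMod 2, (a = 0 ∧ b = 0 ∧ a + b = 0) ∨ (a ≠ 0 ∧ b = 0 ∧ a + b ≠ 0) ∨ (a = 0 ∧ b ≠ 0 ∧ a + b ≠ 0) ∨
        (a ≠ 0 ∧ b ≠ 0 ∧ a + b = 0) := by decide
    show (if a.toAdd + b.toAdd = 0 then (1 : ℂˣ) else -1) = (if a.toAdd = 0 then 1 else -1) * (if b.toAdd = 0 then 1 else -1)
    rcases h a.toAdd b.toAdd with ⟨h1, h2, h3⟩ | ⟨h1, h2, h3⟩ | ⟨h1, h2, h3⟩ | ⟨h1, h2, h3⟩ <;>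
      simp only [h3, if_true, if_false]
    · rw [if_pos h1, if_pos h2, one_mul]
    · rw [if_neg h1, if_pos h2, mul_one]
    · rw [if_pos h1, if_neg h2, one_mul]
    · rw [if_neg h1, if_neg h2, neg_mul_neg, one_mul]

/-- The complex sign of a bit. -/
noncomputable def sgnC (a : ZMod 2) : ℂ := (sgnU (Multiplicative.ofAdd a) : ℂˣ)

theorem sgnC_zero : sgnC 0 = 1 := by
  show ((sgnU 1 : ℂˣ) : ℂ) = 1
  rw [map_one]; rfl

theorem sgnC_one : sgnC 1 = -1 := by
  show (((if (1 : ZMod 2) = 0 then (1 : ℂˣ) else -1) : ℂˣ) : ℂ) = -1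
  rw [if_neg (by decide)]
  simp

theorem sgnC_injective : Function.Injective sgnC := by
  intro a b h
  have key : ∀ a : ZMod 2, a = 0 ∨ a = 1 := by decide
  rcases key a with rfl | rfl <;> rcases key b with rfl | rfl
  · rfl
  · rw [sgnC_zero, sgnC_one] at h
    norm_num at h
  · rw [sgnC_zero, sgnC_one] at h
    norm_num at h
  · rfl

theorem sgnC_sum {k : ℕ} (f : Fin k → ZMod 2) : sgnC (∑ t, f t) = ∏ t, sgnC (f t) := by
  unfold sgnC
  rw [ofAdd_sum, map_prod, Units.coe_prod]

variable {G : Type*} [Group G] [Fintype G] {E : Type*} [Group E] [Fintype E]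

/-- The homomorphism of the signs at the points `j t`. -/
noncomputable def lamH {k : ℕ} (w : E →* Multiplicative (GolayPt → ZMod 2)) (j : Fin k → GolayPt) : E →* ℂˣ where
  toFun e := sgnU (Multiplicative.ofAdd (∑ t, (w e).toAdd (j t)))
  map_one' := by
    rw [map_one]
    simp
  map_mul' a b := by
    rw [← map_mul sgnU, ← ofAdd_add, ← Finset.sum_add_distrib, map_mul w]
    rfl

theorem lamH_apply {k : ℕ} (w : E →* Multiplicative (GolayPt → ZMod 2)) (j : Fin k → GolayPt) (e : E) :
    ((lamH w j e : ℂˣ) : ℂ) = sgnC (∑ t, (w e).toAdd (j t)) := rfl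

/-- **Exterior powers**. -/
theorem IM_lam {p k : ℕ} [Fact p.Prime] (hk : k ≤ 24) (w : E →* Multiplicative (GolayPt → ZMod 2))
    (hw : Function.Injective w) (f : E →* G) {P : ℕ} (hP : ok P = true) (hPp : el P ^ p = 1) (σ : E ≃* E)
    (hσ : ∀ e i, (w (σ e)).toAdd (el P • i) = (w e).toAdd i) (x : G) (hx : ∀ e, f (σ e) = x * f e * x⁻¹)
    {W : G → ℂ} (hW : IsCharacter G W)
    (hWf : ∀ e, W (f e) = altk k (Matrix.diagonal fun i => sgnC ((w e).toAdd i)))
    {bs : List ℕ} (hbs : ∀ m ∈ bs, ∃ e, (w e).toAdd = word m)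
    (hchk : chk k 0 ((List.range 24).map (syn P bs)) = true) : IM p G := by
  classical
  have hW1 : W 1 = ((k.factorial : ℂ))⁻¹ *
      ∑ i : Fin k → GolayPt, (if Function.Injective i then (1 : ℂ) else 0) := by
    have h := hWf 1
    rw [map_one, altk_diagonal] at h
    rw [h]
    congr 1
    refine Finset.sum_congr rfl fun i _ => ?_
    rw [Finset.prod_eq_one, mul_one]
    intro t _
    rw [map_one]
    exact sgnC_zero
  have hW0 : W ≠ 0 := by
    intro h0
    rw [h0, Pi.zero_apply] at hW1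
    have h1 : ((k.factorial : ℂ))⁻¹ ≠ 0 := inv_ne_zero (by exact_mod_cast k.factorial_ne_zero)
    have h2 := (mul_eq_zero.1 hW1.symm).resolve_left h1
    rw [Finset.sum_boole] at h2
    have h3 : (Finset.univ.filter fun i : Fin k → GolayPt => Function.Injective i).card = 0 := by exact_mod_cast h2
    rw [Finset.card_eq_zero, Finset.filter_eq_empty_iff] at h3
    have h4 : Fintype.card (Fin k) ≤ Fintype.card GolayPt := by
      rw [Fintype.card_fin]
      exact hk
    obtain ⟨e⟩ := Function.Embedding.nonempty_of_card_le h4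
    exact h3 (Finset.mem_univ (e : Fin k → GolayPt)) e.injective
  have hiter : ∀ (n : ℕ) (e : E) (i : GolayPt), (w ((σ : E → E)^[n] e)).toAdd ((el P) ^ n • i) = (w e).toAdd i := by
    intro n
    induction n with
    | zero => intro e i; rw [pow_zero, one_smul]; rfl
    | succ n ih =>
      intro e i
      rw [Function.iterate_succ_apply', pow_succ', mul_smul, hσ]
      exact ih e i
  refine IM_of_free p f x σ hx ?_ hW hW0
    (fun j : Fin k → GolayPt => ((k.factorial : ℂ))⁻¹ * (if Function.Injective j then (1 : ℂ) else 0))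
    (fun j e => ((lamH w j e : ℂˣ) : ℂ)) (fun j => Cfsg.Agent.CharDeep.LinearChar.isIrrCharacter_of_hom (lamH w j)) ?_ ?_
  · intro e
    apply hw
    apply Multiplicative.toAdd.injective
    funext i
    have h := hiter p e i
    rwa [hPp, one_smul] at h
  · funext e
    rw [Function.comp_apply, hWf, altk_diagonal, Finset.sum_apply, Finset.mul_sum]
    refine Finset.sum_congr rfl fun j _ => ?_
    rw [Pi.smul_apply, smul_eq_mul, mul_assoc, lamH_apply, sgnC_sum]
  · intro j hj hcon
    have hj' : Function.Injective j := by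
      by_contra h
      rw [if_neg h, mul_zero] at hj
      exact hj rfl
    -- the points moved back
    have hinj : Function.Injective fun t => (el P)⁻¹ • j t := fun s t h => hj' (MulAction.injective _ h)
    obtain ⟨m, hm, hne⟩ := exists_moved hP hchk hinj
    obtain ⟨e, he⟩ := hbs m hm
    have h1 := congrFun hcon e
    simp only [Function.comp_apply] at h1
    rw [lamH_apply, lamH_apply] at h1
    have h2 := sgnC_injective h1
    apply hne
    simp only [smul_inv_smul]
    rw [← he, ← h2]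
    refine Finset.sum_congr rfl fun t _ => ?_
    rw [← hσ e, smul_inv_smul]

end Cfsg.Agent.H843.IMC.Lam
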